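import Cfsg.Agent.Lib.FFourLocal.Cent.Orient

/-!
# The small case: the objects

`fixA E t` is `A = E ∩ C(t)`; `Inv2 E t K` says that `K` is an `A`-invariant 2-subgroup of `C(t)`;
`Tau` is the element carrying `z` to the second point; `Sig` is the largest such subgroup.
-/

set_option autoImplicit false

namespace Cfsg.Agent.FFourLocal.Kill

open Subgroup

universe u

variable {G : Type u} [Group G]

/-- The part of `E` commuting with `t`. -/
def fixA (E : Subgroup G) (t : G) : Subgroup G := E ⊓ centralizer ({t} : Set G)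

/-- An invariant 2-subgroup of `C(t)`. -/
structure Inv2 (E : Subgroup G) (t : G) (K : Subgroup G) : Prop where
  two : IsPGroup 2 ↥K
  le : K ≤ centralizer ({t} : Set G)
  inv : fixA E t ≤ normalizer (K : Set G)

/-- An element centralising `a`, `b`, `t1`, `t2`, `y` and inverting `y⁻¹ z`. -/
structure Tau (E : Subgroup G) (t1 t2 z y a b τ : G) : Prop where
  mem : τ ∈ normalizer (E : Set G)
  a_comm : τ * a = a * τ
  b_comm : τ * b = b * τ
  y_comm : τ * y = y * τ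
  t1_comm : τ * t1 = t1 * τ
  t2_comm : τ * t2 = t2 * τ
  inv : τ * (y⁻¹ * z) * τ⁻¹ = (y⁻¹ * z)⁻¹

/-- The second quaternion group. -/
def L3 (L1 : Subgroup G) (τ : G) : Subgroup G := L1.map (MulAut.conj τ).toMonoidHom

/-- The largest invariant 2-subgroup of `C(t1)` on the side of `a` in the small case. -/
structure Sig (Q2 L1 E : Subgroup G) (t1 z y b τ : G) (R : Subgroup G) : Prop where
  inv : Inv2 E t1 R
  top : ∀ K, Inv2 E t1 K → K ≤ R
  L1_le : L1 ≤ R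
  L3_le : L3 L1 τ ≤ R
  comm : ∀ l ∈ L1, ∀ x ∈ L3 L1 τ, l * x = x * l
  pair : ∀ v ∈ Q2, v ∉ zpowers z ⊔ zpowers b → ∀ x ∈ L3 L1 τ, ∀ w ∈ L3 L1 τ,
    x * (v * w * v⁻¹) = v * w * v⁻¹ * x
  gen : ∀ H : Subgroup G, L1 ≤ H → (∀ v ∈ Q2, ∀ x ∈ L3 L1 τ, v * x * v⁻¹ ∈ H) → R ≤ H
  cent_z : ∀ x ∈ R, x * z = z * x → x ∈ L1
  cent_w : ∀ x ∈ R, x * (τ * z * τ⁻¹) = τ * z * τ⁻¹ * x → x ∈ L3 L1 τ
  cent_y : ∀ x ∈ R, x * y = y * x → x ∈ zpowers t1

end Cfsg.Agent.FFourLocal.Kill
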