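import Cfsg.Agent.Lib.FFourLocal.Kill.Defs
import Cfsg.Agent.Lib.FFourLocal.Double.Small

/-!
# The small case: the two quaternion groups commute, and a 2-group reaching both

Inside `C(b) / ⟨b⟩` the class of `t1` centralises a central product of two quaternion groups, normal
of 3-power index in what the 3-elements generate. It is the image of `L1 ⊔ L3`.
-/

set_option autoImplicit false
set_option linter.unusedSectionVars false
set_option linter.style.haveILetI false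
set_option maxRecDepth 100000
set_option synthInstance.maxSize 10000

namespace Cfsg.Agent.FFourLocal.Kill

open Subgroup
open scoped commutatorElement
open Cfsg.Agent.SpThreeCent (Loc)
open Cfsg.Agent.NineSym (Mn V3 jM)

universe u

/-- A 2-element of exponent three is trivial. -/
theorem eq_one_two_three {G : Type u} [Group G] {x : G} {n : ℕ} (h2 : x ^ 2 ^ n = 1) (h3 : x ^ 3 = 1) :
    x = 1 :=
  orderOf_eq_one_iff.1 (Nat.dvd_one.1 (((Nat.Coprime.pow_left n (by norm_num : Nat.Coprime 2 3)) :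
    Nat.gcd (2 ^ n) 3 = 1) ▸ Nat.dvd_gcd (orderOf_dvd_of_pow_eq_one h2) (orderOf_dvd_of_pow_eq_one h3)))

theorem sl_facts :
    (∀ g : Matrix.SpecialLinearGroup (Fin 2) (ZMod 3), g ^ 24 = 1) ∧
    (∀ g : Matrix.SpecialLinearGroup (Fin 2) (ZMod 3), g ^ 8 = 1 → g ^ 4 = 1) ∧
    Nat.card {g : Matrix.SpecialLinearGroup (Fin 2) (ZMod 3) // g ^ 4 = 1} = 8 ∧
    ∀ g h : Matrix.SpecialLinearGroup (Fin 2) (ZMod 3),
      g ^ 4 = 1 → h ^ 3 = 1 → h ≠ 1 → g * h = h * g → g ^ 2 = 1 := by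
  refine ⟨by decide +kernel, by decide +kernel, ?_, by decide +kernel⟩
  rw [Nat.card_eq_fintype_card]
  decide +kernel

variable {G : Type u} [Group G] [Finite G] {Z Q Q1 Q2 L1 L2 E : Subgroup G} {t1 t2 z y a b : G}

section Base

variable (D : Local Z Q Q1 Q2 L1 L2 E t1 t2 z y a b)
include D

theorem L1_four {l : G} (hl : l ∈ L1) : l ^ 4 = 1 := by
  obtain ⟨e⟩ := D.base.L1_quat
  have : (⟨l, hl⟩ : ↥L1) ^ 4 = 1 := e.injective (by
    rw [map_pow, map_one]; exact (show ∀ v : QuaternionGroup 2, v ^ 4 = 1 by decide) _)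
  exact congrArg Subtype.val this

theorem L1_t1 {l : G} (hl : l ∈ L1) : Commute l t1 := by
  have h2 : (l * t1 * l⁻¹) * (l * t1 * l⁻¹) = 1 := by
    rw [show (l * t1 * l⁻¹) * (l * t1 * l⁻¹) = l * (t1 * t1) * l⁻¹ by group, D.t1_sq]; group
  rcases D.base.pow_four D.base.L1_quat (mul_mem (mul_mem hl D.base.t1_mem) (inv_mem hl)) D.base.t1_mem
    D.base.t1_two h2 with h | h
  · exfalso
    have ht : t1 = 1 := conj_eq_one_iff.1 h
    have := D.base.t1_two
    rw [ht, orderOf_one] at this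
    omega
  · exact mul_inv_eq_iff_eq_mul.1 h

theorem L1_b {l : G} (hl : l ∈ L1) : Commute l b :=
  (mem_centralizer_iff.1 (D.base.L1_cent hl) b D.b_mem).symm

theorem L1_z {l : G} (hl : l ∈ L1) : Commute l z := D.base.fix_Z (D.base.L1_le hl) D.z_mem

theorem t1_ne : t1 ≠ 1 := fun e => by
  have := D.base.t1_two
  rw [e, orderOf_one] at this
  omega

/-- The part of `C(Z)` commuting with `b`. -/
theorem mem_CZb {g : G} (h1 : Commute g z) (h2 : Commute g b) :
    g ∈ centralizer (Z : Set G) ⊓ centralizer ({b} : Set G) :=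
  ⟨D.mem_centZ.2 h1, mem_centralizer_singleton_iff.2 h2⟩

theorem exists_sl : ∃ f : ↥(centralizer (Z : Set G) ⊓ centralizer ({b} : Set G)) →*
    Matrix.SpecialLinearGroup (Fin 2) (ZMod 3), ∀ x, f x = 1 ↔ (x : G) ∈ Q := by
  obtain ⟨s, hs, has⟩ := D.base.exists_partner D.base.le1 (fun x hx w hw => D.base.Q_comm x hx w hw)
    D.base.Q_prod D.a_mem D.a_not D.z_mem
  exact ⟨D.symm.sl hs has, fun x => D.symm.sl_eq_one hs has x⟩

/-- The 2-elements commuting with `z`, `b` and `t1` lie in `L1`. -/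
theorem two_mem_L1 {g : G} {n : ℕ} (hz : Commute g z) (hb : Commute g b) (ht : Commute g t1)
    (hn : g ^ 2 ^ n = 1) : g ∈ L1 := by
  classical
  obtain ⟨f, hf⟩ := exists_sl D
  obtain ⟨h24, h84, hcard, -⟩ := sl_facts
  let i : ↥L1 →* ↥(centralizer (Z : Set G) ⊓ centralizer ({b} : Set G)) :=
    Subgroup.inclusion fun l hl => mem_CZb D (L1_z D hl) (L1_b D hl)
  let F : ↥L1 → {h : Matrix.SpecialLinearGroup (Fin 2) (ZMod 3) // h ^ 4 = 1} := fun l =>
    ⟨f (i l), by rw [← map_pow, ← map_pow, show l ^ 4 = 1 from Subtype.ext (L1_four D l.2), map_one, map_one]⟩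
  have hFi : Function.Injective F := by
    intro l m e
    have e' : f (i (l⁻¹ * m)) = 1 := by
      have := congrArg Subtype.val e
      simp only [F] at this
      rw [map_mul, map_inv, map_mul, map_inv, this, inv_mul_cancel]
    have hQ : ((l⁻¹ * m : ↥L1) : G) ∈ Q := (hf _).1 e'
    have h1 := eq_one_two_three (n := 2) (L1_four D (l⁻¹ * m : ↥L1).2) (D.base.cube _ hQ)
    have h2 : l⁻¹ * m = 1 := Subtype.ext h1
    exact inv_mul_eq_one.1 h2
  have hL : Nat.card L1 = 8 := by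
    obtain ⟨e⟩ := D.base.L1_quat
    rw [Nat.card_congr e.toEquiv, Nat.card_eq_fintype_card, QuaternionGroup.card]
  have hFs := ((Nat.bijective_iff_injective_and_card F).2 ⟨hFi, by rw [hL, hcard]⟩).2
  set c : ↥(centralizer (Z : Set G) ⊓ centralizer ({b} : Set G)) := ⟨g, mem_CZb D hz hb⟩ with hc
  have h4 : f c ^ 4 = 1 := by
    refine h84 _ (orderOf_dvd_iff_pow_eq_one.1 ?_)
    have h1 : orderOf (f c) ∣ 2 ^ n := (orderOf_map_dvd f c).trans (orderOf_dvd_of_pow_eq_one (Subtype.ext hn))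
    have h2 : orderOf (f c) ∣ 8 * 3 := orderOf_dvd_of_pow_eq_one (h24 _)
    exact ((Nat.Coprime.pow_left n (by norm_num : Nat.Coprime 2 3)).coprime_dvd_left h1).dvd_of_dvd_mul_right h2
  obtain ⟨l, hl⟩ := hFs ⟨f c, h4⟩
  have hl' : f (i l) = f c := congrArg Subtype.val hl
  have huQ : (l : G)⁻¹ * g ∈ Q := (hf ((i l)⁻¹ * c)).1 (by rw [map_mul, map_inv, hl', inv_mul_cancel])
  have hub : Commute ((l : G)⁻¹ * g) b := (L1_b D l.2).inv_left.mul_left hb
  have hut : Commute ((l : G)⁻¹ * g) t1 := (L1_t1 D l.2).inv_left.mul_left ht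
  have hcomm : Commute (l : G) ((l : G)⁻¹ * g) := by
    have hmem := (D.symm.cent_Q2 huQ).1 hub.eq
    have hn1 : zpowers b ≤ normalizer (Q1 : Set G) := zpowers_le.2 (mem_normalizer_iff.2 fun x => by
      constructor
      · intro hx
        rw [← D.base.Q_comm x hx b D.b_mem, mul_inv_cancel_right]
        exact hx
      · intro hx
        have e := D.base.Q_comm _ hx b D.b_mem
        have : x = b * x * b⁻¹ := by
          calc x = b⁻¹ * ((b * x * b⁻¹) * b) := by group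
            _ = b⁻¹ * (b * (b * x * b⁻¹)) := by rw [e]
            _ = _ := by group
        rwa [this])
    rw [← SetLike.mem_coe, coe_mul_of_left_le_normalizer_right (zpowers b) Q1 hn1] at hmem
    obtain ⟨w, hw, q, hq, e⟩ := hmem
    obtain ⟨k, rfl⟩ := mem_zpowers_iff.1 hw
    simp only at e
    have hqt : Commute q t1 := by
      have h1 : Commute (b ^ k) t1 := ((show Commute t1 b from D.t1_b).symm).zpow_left k
      rw [show q = (b ^ k)⁻¹ * ((l : G)⁻¹ * g) by rw [← e, inv_mul_cancel_left]]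
      exact h1.inv_left.mul_left hut
    have hqZ : q ∈ Z := D.two_inv (D.base.le1 hq) (by
      have := D.base.t1_inv q hq
      rwa [hqt.symm.eq, mul_inv_cancel_right] at this)
    rw [← e]
    exact ((L1_b D l.2).zpow_right k).mul_right (D.base.fix_Z (D.base.L1_le l.2) hqZ)
  have hu1 : (l : G)⁻¹ * g = 1 := by
    refine eq_one_two_three (n := n + 2) ?_ (D.base.cube _ huQ)
    have hlg : Commute (l : G) g := by
      have := (Commute.refl (l : G)).mul_right hcomm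
      rwa [mul_inv_cancel_left] at this
    rw [hlg.inv_left.mul_pow, inv_pow, show 2 ^ (n + 2) = 4 * 2 ^ n by ring, pow_mul, L1_four D l.2, one_pow,
      inv_one, one_mul, mul_comm 4, pow_mul, hn, one_pow]
  rw [← inv_mul_eq_one.1 hu1]
  exact l.2

theorem y_norm_L1 {l : G} (hl : l ∈ L1) : y * l * y⁻¹ ∈ L1 := by
  have hz : Commute (y * l * y⁻¹) z := ((show Commute y z from D.yz).mul_left (L1_z D hl)).mul_left
    (show Commute y z from D.yz).inv_left
  have hb : Commute (y * l * y⁻¹) b := ((show Commute y b from D.y_b).mul_left (L1_b D hl)).mul_left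
    (show Commute y b from D.y_b).inv_left
  have ht : Commute (y * l * y⁻¹) t1 := ((show Commute y t1 from D.y_t1.symm).mul_left (L1_t1 D hl)).mul_left
    (show Commute y t1 from D.y_t1.symm).inv_left
  refine two_mem_L1 D (n := 2) hz hb ht ?_
  show (y * l * y⁻¹) ^ 4 = 1
  rw [conj_pow, L1_four D hl]; group

theorem y_inv_norm_L1 {l : G} (hl : l ∈ L1) : y⁻¹ * l * y ∈ L1 := by
  have h := y_norm_L1 D (y_norm_L1 D hl)
  have e : y⁻¹ = y * y := inv_eq_of_mul_eq_one_left (by rw [mul_assoc, ← pow_two, ← pow_succ', D.y_cube])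
  rw [show y * (y * l * y⁻¹) * y⁻¹ = (y * y) * l * (y * y)⁻¹ by group, ← e, inv_inv] at h
  exact h

theorem L1_y {l : G} (hl : l ∈ L1) (h : Commute l y) : l = 1 ∨ l = t1 := by
  refine D.base.pow_four D.base.L1_quat hl D.base.t1_mem D.base.t1_two ?_
  obtain ⟨f, hf⟩ := exists_sl D
  obtain ⟨-, -, -, hfix⟩ := sl_facts
  set cl : ↥(centralizer (Z : Set G) ⊓ centralizer ({b} : Set G)) :=
    ⟨l, mem_CZb D (L1_z D hl) (L1_b D hl)⟩
  set cy : ↥(centralizer (Z : Set G) ⊓ centralizer ({b} : Set G)) := ⟨y, mem_CZb D D.yz D.y_b⟩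
  have h2 : f cl ^ 2 = 1 := by
    refine hfix _ (f cy) ?_ ?_ (fun e => D.y_not ((hf cy).1 e)) ?_
    · rw [← map_pow, show cl ^ 4 = 1 from Subtype.ext (L1_four D hl), map_one]
    · rw [← map_pow, show cy ^ 3 = 1 from Subtype.ext D.y_cube, map_one]
    · rw [← map_mul, ← map_mul, show cl * cy = cy * cl from Subtype.ext h]
  rw [← map_pow] at h2
  have hQ : l ^ 2 ∈ Q := (hf _).1 h2
  rw [← pow_two]
  exact eq_one_two_three (n := 1) (by rw [pow_one, ← pow_mul]; exact L1_four D hl) (D.base.cube _ hQ)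

theorem shift_ne {l : G} (hl : l ∈ L1) (h1 : l ∉ zpowers t1) :
    y⁻¹ * l * y ≠ l ∧ y⁻¹ * l * y ≠ l * t1 := by
  have hne : ¬ Commute l y := fun h => by
    rcases L1_y D hl h with rfl | rfl
    exacts [h1 (one_mem _), h1 (mem_zpowers _)]
  refine ⟨fun e => hne ?_, fun e => ?_⟩
  · show l * y = y * l
    calc l * y = y * (y⁻¹ * l * y) := by group
      _ = _ := by rw [e]
  · have hyt : Commute y t1 := D.y_t1.symm
    have step : ∀ m : G, y⁻¹ * (m * t1) * y = (y⁻¹ * m * y) * t1 := fun m => by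
      rw [show y⁻¹ * (m * t1) * y = y⁻¹ * m * (t1 * y) by group, ← hyt.eq]; group
    have h3 : (y ^ 3)⁻¹ * l * y ^ 3 = l * t1 := by
      calc (y ^ 3)⁻¹ * l * y ^ 3 = y⁻¹ * (y⁻¹ * (y⁻¹ * l * y) * y) * y := by simp [pow_succ, mul_assoc]
        _ = l * t1 * t1 * t1 := by rw [e, step, e, step, step, e]
        _ = _ := by rw [mul_assoc (l * t1), D.t1_sq, mul_one]
    rw [D.y_cube] at h3
    refine t1_ne D ?_
    calc t1 = l⁻¹ * (l * t1) := by group
      _ = 1 := by rw [← h3]; group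

/-- A subgroup meeting `L1` outside `⟨t1⟩` and invariant under `y` contains `L1`. -/
theorem L1_le_of_mem {H : Subgroup G} (ht : t1 ∈ H) {x : G} (hx : x ∈ L1) (hxH : x ∈ H)
    (hx1 : x ∉ zpowers t1) (hinv : y⁻¹ * x * y ∈ H) : L1 ≤ H := by
  classical
  have hL : Nat.card L1 = 8 := by
    obtain ⟨e⟩ := D.base.L1_quat
    rw [Nat.card_congr e.toEquiv, Nat.card_eq_fintype_card, QuaternionGroup.card]
  set M := L1 ⊓ H
  obtain ⟨n1, n2⟩ := shift_ne D hx hx1
  have hp : y⁻¹ * x * y ∈ M := ⟨y_inv_norm_L1 D hx, hinv⟩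
  have hy1 : y⁻¹ * x * y ≠ 1 := fun e => hx1 (by
    have : x = y * (y⁻¹ * x * y) * y⁻¹ := by group
    rw [this, e, mul_one, mul_inv_cancel]; exact one_mem _)
  have hy2 : y⁻¹ * x * y ≠ t1 := fun e => hx1 (by
    have : x = y * (y⁻¹ * x * y) * y⁻¹ := by group
    rw [this, e, D.y_t1.symm, mul_inv_cancel_right]; exact mem_zpowers _)
  have hxn1 : x ≠ 1 := fun e => hx1 (e ▸ one_mem _)
  have hxn2 : x ≠ t1 := fun e => hx1 (e ▸ mem_zpowers _)
  have hxt1 : x * t1 ≠ 1 := fun e => hxn2 (by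
    calc x = x * (t1 * t1) := by rw [D.t1_sq, mul_one]
      _ = _ := by rw [← mul_assoc, e, one_mul])
  have hxt2 : x * t1 ≠ t1 := fun e => hxn1 (mul_eq_right.1 e)
  have hxt3 : x * t1 ≠ x := fun e => t1_ne D (mul_eq_left.1 e)
  let v : Fin 5 → G := ![1, t1, x, x * t1, y⁻¹ * x * y]
  have hv : ∀ i, v i ∈ M := by
    intro i
    fin_cases i
    exacts [one_mem _, ⟨D.base.t1_mem, ht⟩, ⟨hx, hxH⟩, ⟨mul_mem hx D.base.t1_mem, mul_mem hxH ht⟩, hp]
  have hvi : Function.Injective v := by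
    intro i j e
    fin_cases i <;> fin_cases j <;>
      simp_all [v, t1_ne D, (t1_ne D).symm, hxn1.symm, hxn2.symm, hxt1.symm, hxt2.symm, hxt3.symm, hy1.symm,
        hy2.symm, n1.symm, n2.symm]
  have h5 : 5 ≤ Nat.card M := by
    simpa using Nat.card_le_card_of_injective (fun i => (⟨v i, hv i⟩ : ↥M))
      fun i j e => hvi (congrArg Subtype.val e)
  have hd : Nat.card M ∣ 8 := hL ▸ card_dvd_of_le (inf_le_left : M ≤ L1)
  have h8 : Nat.card M = 8 := by
    obtain ⟨k, hk, e⟩ := (Nat.dvd_prime_pow Nat.prime_two).1 (show Nat.card M ∣ 2 ^ 3 from hd)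
    rw [e] at h5 ⊢
    interval_cases k <;> simp_all
  exact (eq_of_le_of_card_ge (inf_le_left : M ≤ L1) (by rw [h8, hL])).ge.trans inf_le_right

/-- Every element of `L1` is a `y`-commutator up to `t1`. -/
theorem L1_gen {l : G} (hl : l ∈ L1) :
    ∃ m ∈ L1, ∃ e ∈ zpowers t1, l = m⁻¹ * (y⁻¹ * m * y) * e := by
  classical
  have hL : Nat.card L1 = 8 := by
    obtain ⟨e⟩ := D.base.L1_quat
    rw [Nat.card_congr e.toEquiv, Nat.card_eq_fintype_card, QuaternionGroup.card]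
  set T := (zpowers t1).subgroupOf L1
  have hcent : ∀ e ∈ zpowers t1, ∀ m ∈ L1, Commute m e := fun e he m hm => by
    obtain ⟨k, rfl⟩ := mem_zpowers_iff.1 he
    exact (L1_t1 D hm).zpow_right k
  let g : ↥L1 → ↥L1 := fun m => ⟨(m : G)⁻¹ * (y⁻¹ * m * y), mul_mem (inv_mem m.2) (y_inv_norm_L1 D m.2)⟩
  have hsquare : ∀ p q : ↥L1, ∃ e ∈ zpowers t1, (p : G) * q = q * p * e := by
    intro p q
    obtain ⟨eq⟩ := D.base.L1_quat
    have key : ∀ u v : QuaternionGroup 2, (v * u)⁻¹ * (u * v) * ((v * u)⁻¹ * (u * v)) = 1 := by decide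
    have hm : ((q : G) * p)⁻¹ * (p * q) ∈ L1 :=
      mul_mem (inv_mem (mul_mem q.2 p.2)) (mul_mem p.2 q.2)
    have h2 : ((q : G) * p)⁻¹ * (p * q) * (((q : G) * p)⁻¹ * (p * q)) = 1 := by
      have : ((q * p)⁻¹ * (p * q) * ((q * p)⁻¹ * (p * q)) : ↥L1) = 1 := eq.injective (by
        simp only [map_mul, map_inv, map_one]; exact key _ _)
      simpa using congrArg Subtype.val this
    refine ⟨((q : G) * p)⁻¹ * (p * q), ?_, by group⟩
    rcases D.base.pow_four D.base.L1_quat hm D.base.t1_mem D.base.t1_two h2 with h | h <;> rw [h]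
    exacts [one_mem _, mem_zpowers _]
  let H : Subgroup G :=
    { carrier := {x | ∃ m ∈ L1, ∃ e ∈ zpowers t1, x = m⁻¹ * (y⁻¹ * m * y) * e}
      one_mem' := ⟨1, one_mem _, 1, one_mem _, by group⟩
      mul_mem' := by
        rintro x x' ⟨m, hm, e, he, rfl⟩ ⟨n, hn, e', he', rfl⟩
        have hm' := y_inv_norm_L1 D hm
        have hn' := y_inv_norm_L1 D hn
        have hN : n⁻¹ * (y⁻¹ * n * y) ∈ L1 := mul_mem (inv_mem hn) hn'
        obtain ⟨e1, he1, q1⟩ := hsquare ⟨_, mul_mem (inv_mem hm) hm'⟩ ⟨_, inv_mem hn⟩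
        simp only at q1
        refine ⟨m * n, mul_mem hm hn, e1 * e * e', mul_mem (mul_mem he1 he) he', ?_⟩
        have c1 : Commute (n⁻¹ * (y⁻¹ * n * y)) e := hcent e he _ hN
        have c2 : Commute (y⁻¹ * n * y) e1 := hcent e1 he1 _ hn'
        calc m⁻¹ * (y⁻¹ * m * y) * e * (n⁻¹ * (y⁻¹ * n * y) * e')
            = m⁻¹ * (y⁻¹ * m * y) * (e * (n⁻¹ * (y⁻¹ * n * y))) * e' := by group
          _ = (m⁻¹ * (y⁻¹ * m * y) * n⁻¹) * (y⁻¹ * n * y) * e * e' := by rw [← c1.eq]; group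
          _ = n⁻¹ * (m⁻¹ * (y⁻¹ * m * y)) * (e1 * (y⁻¹ * n * y)) * e * e' := by rw [q1]; group
          _ = _ := by rw [← c2.eq]; group
      inv_mem' := by
        rintro x ⟨m, hm, e, he, rfl⟩
        have hm' := y_inv_norm_L1 D hm
        obtain ⟨e1, he1, q1⟩ := hsquare ⟨_, inv_mem hm'⟩ ⟨m, hm⟩
        simp only at q1
        refine ⟨m⁻¹, inv_mem hm, e1 * e⁻¹, mul_mem he1 (inv_mem he), ?_⟩
        have c1 : Commute ((y⁻¹ * m * y)⁻¹ * m) e := hcent e he _ (mul_mem (inv_mem hm') hm)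
        calc (m⁻¹ * (y⁻¹ * m * y) * e)⁻¹ = e⁻¹ * ((y⁻¹ * m * y)⁻¹ * m) := by group
          _ = (y⁻¹ * m * y)⁻¹ * m * e⁻¹ := c1.inv_right.symm.eq
          _ = m * (y⁻¹ * m * y)⁻¹ * e1 * e⁻¹ := by rw [q1]
          _ = _ := by group }
  obtain ⟨x, hx, hx1⟩ : ∃ x ∈ L1, x ∉ zpowers t1 := by
    by_contra h
    push Not at h
    have := card_dvd_of_le (show L1 ≤ zpowers t1 from h)
    rw [hL, Nat.card_zpowers, D.base.t1_two] at this
    exact absurd (Nat.le_of_dvd two_pos this) (by norm_num)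
  set x' := x⁻¹ * (y⁻¹ * x * y) with hx'
  have hx'1 : x' ∉ zpowers t1 := by
    intro h
    obtain ⟨n1, n2⟩ := shift_ne D hx hx1
    have e : y⁻¹ * x * y = x * x' := by rw [hx']; group
    obtain ⟨k, hk⟩ := mem_zpowers_iff.1 h
    rcases Int.even_or_odd k with ⟨j, rfl⟩ | ⟨j, rfl⟩
    · rw [zpow_add, ← (Commute.refl t1).mul_zpow, D.t1_sq, one_zpow] at hk
      exact n1 (by rw [e, ← hk, mul_one])
    · rw [zpow_add_one, zpow_mul, zpow_two, D.t1_sq, one_zpow, one_mul] at hk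
      exact n2 (by rw [e, ← hk])
  refine L1_le_of_mem D (H := H) ⟨1, one_mem _, t1, mem_zpowers _, by group⟩
    (mul_mem (inv_mem hx) (y_inv_norm_L1 D hx)) ⟨x, hx, 1, one_mem _, by rw [mul_one]⟩ hx'1
    ⟨y⁻¹ * x * y, y_inv_norm_L1 D hx, 1, one_mem _, by group⟩ hl

end Base

/-- In the small case on the side of `b` the two quaternion groups commute, and an invariant 2-group
moved by `z` contains the second one with the first. -/
theorem pair_of_small {τ : G} (D : Local Z Q Q1 Q2 L1 L2 E t1 t2 z y a b) (hτ : Tau E t1 t2 z y a b τ)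
    (hs : SmallLoc b z Q1 E) :
    (∀ l ∈ L1, ∀ x ∈ L3 L1 τ, l * x = x * l) ∧
    ∀ K : Subgroup G, IsPGroup 2 K → K ≤ centralizer ({t1} : Set G) → K ≤ centralizer ({b} : Set G) →
      L1 ≤ K → z ∈ normalizer (K : Set G) → (∃ k ∈ K, k * z ≠ z * k) → L3 L1 τ ≤ K := by
  classical
  obtain ⟨hzb, φ, Lc, hsmall⟩ := hs
  let C := centralizer ({b} : Set G)
  let π : ↥C →* Xq b := QuotientGroup.mk' (cK b)
  let mk : (g : G) → Commute g b → ↥C := fun g h => ⟨g, mem_centralizer_singleton_iff.2 h⟩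
  let s : Xq b := π (mk t1 D.t1_b)
  have hcb : ∀ g : G, ∀ hg : g ∈ C, Commute g b := fun g hg => mem_centralizer_singleton_iff.1 hg
  have hsinv : ∀ x ∈ im b (zpowers b ⊔ Q1), s * x * s⁻¹ * x ∈ zpowers (cls' b z hzb) := by
    rintro _ ⟨⟨x, hxC⟩, hx, rfl⟩
    rw [SetLike.mem_coe, mem_subgroupOf] at hx
    simp only at hx
    have hn1 : zpowers b ≤ centralizer (Q1 : Set G) :=
      zpowers_le.2 (mem_centralizer_iff.2 fun u hu => D.base.Q_comm u hu b D.b_mem)
    rw [← SetLike.mem_coe, coe_mul_of_left_le_normalizer_right (zpowers b) Q1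
      (hn1.trans (centralizer_le_normalizer _))] at hx
    obtain ⟨w, hw, q, hq, rfl⟩ := hx
    obtain ⟨k, rfl⟩ := mem_zpowers_iff.1 hw
    obtain ⟨j, hj⟩ := mem_zpowers_iff.1 (D.z_gen.ge (D.base.t1_inv q hq))
    refine mem_zpowers_iff.2 ⟨j, ?_⟩
    show π (mk z hzb) ^ j = _
    simp only [s, π]
    rw [← map_inv, ← map_mul, ← map_mul, ← map_mul, ← map_zpow]
    refine mk_eq_iff.2 ?_
    simp only [Subgroup.coe_mul, InvMemClass.coe_inv, SubgroupClass.coe_zpow, mk]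
    have hbk : Commute (b ^ k) t1 := ((show Commute t1 b from D.t1_b).symm).zpow_left k
    have hbt : Commute (b ^ k) (t1 * q * t1⁻¹) :=
      (hbk.mul_right ((show Commute q b from D.base.Q_comm q hq b D.b_mem).symm.zpow_left k)).mul_right
        hbk.inv_right
    have e : t1 * (b ^ k * q) * t1⁻¹ * (b ^ k * q) = b ^ k * b ^ k * z ^ j := by
      rw [hj]
      calc t1 * (b ^ k * q) * t1⁻¹ * (b ^ k * q) = (t1 * b ^ k) * q * t1⁻¹ * (b ^ k * q) := by group
        _ = b ^ k * ((t1 * q * t1⁻¹) * b ^ k) * q := by rw [← hbk.eq]; group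
        _ = _ := by rw [← hbt.eq]; group
    rw [e, show (z ^ j)⁻¹ * (b ^ k * b ^ k * z ^ j) = b ^ k * b ^ k by
      rw [(((show Commute z b from D.zb).symm.zpow_left k).mul_left
        ((show Commute z b from D.zb).symm.zpow_left k)).zpow_right j |>.eq, inv_mul_cancel_left]]
    exact mul_mem (zpow_mem (mem_zpowers b) k) (zpow_mem (mem_zpowers b) k)
  obtain ⟨N, hN32, hsN', hNN, hNc⟩ := Double.exists_double Lc hsmall (s := s)
    (by
      show π _ * π (mk z hzb) = π (mk z hzb) * π _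
      rw [← map_mul, ← map_mul]
      exact congrArg π (Subtype.ext (L1_z D D.base.t1_mem).eq))
    (by
      show π _ * π _ = 1
      rw [← map_mul, show mk t1 D.t1_b * mk t1 D.t1_b = 1 from Subtype.ext D.t1_sq, map_one])
    hsinv
  have hsN : s ∈ N := hsN' (mem_zpowers s)
  have hscomm : ∀ g (hg : Commute g b), Commute g t1 → π (mk g hg) * s = s * π (mk g hg) := fun g hg h => by
    simp only [s, ← map_mul]
    exact congrArg π (Subtype.ext h.eq)
  -- the 2-elements of the kernel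
  have hker : ∀ u : ↥C, π u = 1 → ∀ n : ℕ, (u : G) ^ 2 ^ n = 1 → (u : G) = 1 := fun u hu n hn =>
    eq_one_two_three hn (by
      obtain ⟨k, hk⟩ := mem_zpowers_iff.1 (mk_eq_one_iff.1 hu)
      rw [← hk, ← zpow_natCast, ← zpow_mul, mul_comm, zpow_mul, zpow_natCast, D.b3, one_zpow])
  -- data on the second group
  have hτb : Commute τ b := hτ.b_comm
  have hτy : Commute τ y := hτ.y_comm
  have hτt : Commute τ t1 := hτ.t1_comm
  have hL3 : ∀ x, x ∈ L3 L1 τ ↔ ∃ l ∈ L1, τ * l * τ⁻¹ = x := fun x => by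
    simp [L3, Subgroup.mem_map, MulAut.conj_apply]
  have hL3b : ∀ x ∈ L3 L1 τ, Commute x b := fun x hx => by
    obtain ⟨l, hl, rfl⟩ := (hL3 x).1 hx
    exact (hτb.mul_left (L1_b D hl)).mul_left hτb.inv_left
  have hL3t : ∀ x ∈ L3 L1 τ, Commute x t1 := fun x hx => by
    obtain ⟨l, hl, rfl⟩ := (hL3 x).1 hx
    exact (hτt.mul_left (L1_t1 D hl)).mul_left hτt.inv_left
  have hL3four : ∀ x ∈ L3 L1 τ, x ^ 4 = 1 := fun x hx => by
    obtain ⟨l, hl, rfl⟩ := (hL3 x).1 hx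
    rw [conj_pow, L1_four D hl]; group
  have ht3 : t1 ∈ L3 L1 τ := (hL3 _).2 ⟨t1, D.base.t1_mem, by rw [hτt.eq, mul_inv_cancel_right]⟩
  have hpow : ∀ i : ℤ, π (mk t1 D.t1_b) ^ i ∈ N := fun i => zpow_mem hsN i
  have hNmem : ∀ m : G, Commute m b → Commute m t1 → m ∈ L1 ∨ m ∈ L3 L1 τ →
      ∀ h : Commute m b, π (mk m h) ∈ N := by
    intro m _ _ hm
    -- `m` is a commutator with `y` up to `t1`
    obtain ⟨n, hnb, hnt, hn4, e, he, rfl⟩ : ∃ n, Commute n b ∧ Commute n t1 ∧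
        (⁅n⁻¹, y⁻¹⁆) ^ 2 ^ 2 = 1 ∧ ∃ e ∈ zpowers t1, m = ⁅n⁻¹, y⁻¹⁆ * e := by
      have key : ∀ l ∈ L1, ∃ n ∈ L1, ∃ e ∈ zpowers t1, l = ⁅n⁻¹, y⁻¹⁆ * e := fun l hl => by
        obtain ⟨n, hn, e, he, rfl⟩ := L1_gen D hl
        exact ⟨n, hn, e, he, by rw [commutatorElement_def]; group⟩
      have k4 : ∀ n ∈ L1, ⁅n⁻¹, y⁻¹⁆ ∈ L1 := fun n hn => by
        rw [show ⁅n⁻¹, y⁻¹⁆ = n⁻¹ * (y⁻¹ * n * y) by rw [commutatorElement_def]; group]
        exact mul_mem (inv_mem hn) (y_inv_norm_L1 D hn)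
      rcases hm with hm | hm
      · obtain ⟨n, hn, e, he, rfl⟩ := key m hm
        exact ⟨n, L1_b D hn, L1_t1 D hn, L1_four D (k4 n hn), e, he, rfl⟩
      · obtain ⟨l, hl, rfl⟩ := (hL3 m).1 hm
        obtain ⟨n, hn, e, he, rfl⟩ := key l hl
        have hc : ⁅(τ * n * τ⁻¹)⁻¹, y⁻¹⁆ = τ * ⁅n⁻¹, y⁻¹⁆ * τ⁻¹ := by
          have hyτ : τ * y⁻¹ * τ⁻¹ = y⁻¹ := by rw [hτy.inv_right.eq, mul_inv_cancel_right]
          conv_lhs => rw [← hyτ]
          simp only [commutatorElement_def]; group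
        refine ⟨τ * n * τ⁻¹, (hτb.mul_left (L1_b D hn)).mul_left hτb.inv_left,
          (hτt.mul_left (L1_t1 D hn)).mul_left hτt.inv_left, ?_, e, he, ?_⟩
        · rw [hc, conj_pow, show ⁅n⁻¹, y⁻¹⁆ ^ 2 ^ 2 = 1 from L1_four D (k4 n hn)]; group
        · obtain ⟨k, rfl⟩ := mem_zpowers_iff.1 he
          rw [hc, show τ * (⁅n⁻¹, y⁻¹⁆ * t1 ^ k) * τ⁻¹ = τ * ⁅n⁻¹, y⁻¹⁆ * (t1 ^ k * τ⁻¹) by group,
            ((hτt.symm.zpow_left k).inv_right).eq]
          group
    intro h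
    obtain ⟨k, rfl⟩ := mem_zpowers_iff.1 he
    have hyb : Commute y⁻¹ b := (show Commute y b from D.y_b).inv_left
    have hmk : mk _ h = ⁅mk n⁻¹ hnb.inv_left, mk y⁻¹ hyb⁆ * mk t1 D.t1_b ^ k := by
      refine Subtype.ext ?_
      simp [mk, commutatorElement_def]
    rw [hmk, map_mul, map_zpow, map_commutatorElement]
    refine mul_mem (hNc _ _ (hscomm _ hnb.inv_left hnt.inv_left)
      (hscomm _ hyb (show Commute y t1 from D.y_t1.symm).inv_left)
      ?_ ⟨2, ?_⟩) (hpow k)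
    · rw [← map_pow, show mk y⁻¹ hyb ^ 3 = 1 from Subtype.ext (by simp [mk, inv_pow, D.y_cube]), map_one]
    · rw [← map_commutatorElement, ← map_pow,
        show ⁅mk n⁻¹ hnb.inv_left, mk y⁻¹ hyb⁆ ^ 2 ^ 2 = 1 from
          Subtype.ext (by simpa [mk, commutatorElement_def] using hn4), map_one]
  -- how `z` moves the second group
  have hw : τ⁻¹ * z * τ = y * z⁻¹ * y := by
    have h1 : τ⁻¹ * (y⁻¹ * z) * τ = (y⁻¹ * z)⁻¹ := by
      have := hτ.inv
      calc τ⁻¹ * (y⁻¹ * z) * τ = τ⁻¹ * (τ * (y⁻¹ * z) * τ⁻¹)⁻¹ * τ := by rw [this, inv_inv]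
        _ = _ := by group
    calc τ⁻¹ * z * τ = (τ⁻¹ * y * τ) * (τ⁻¹ * (y⁻¹ * z) * τ) := by group
      _ = y * (y⁻¹ * z)⁻¹ := by rw [h1, show τ⁻¹ * y * τ = y by rw [mul_assoc, hτy.symm.eq, inv_mul_cancel_left]]
      _ = _ := by group
  have hyy : y⁻¹ = y * y := inv_eq_of_mul_eq_one_left (by rw [mul_assoc, ← pow_two, ← pow_succ', D.y_cube])
  have hzL3 : ∀ l ∈ L1, z * (τ * l * τ⁻¹) * z⁻¹ = τ * (y⁻¹ * l * y) * τ⁻¹ := fun l hl => by
    have hzy : Commute z⁻¹ y := ((show Commute y z from D.yz).symm).inv_left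
    have e : y * z⁻¹ * y = y⁻¹ * z⁻¹ := by rw [mul_assoc, hzy.eq, ← mul_assoc, ← hyy]
    calc z * (τ * l * τ⁻¹) * z⁻¹ = τ * ((τ⁻¹ * z * τ) * l * (τ⁻¹ * z * τ)⁻¹) * τ⁻¹ := by group
      _ = τ * (y⁻¹ * (z⁻¹ * l) * z * y) * τ⁻¹ := by rw [hw, e]; group
      _ = _ := by rw [((L1_z D hl).symm.inv_left).eq]; group
  -- the two groups commute
  have hcomm : ∀ l ∈ L1, ∀ x ∈ L3 L1 τ, l * x = x * l := by
    intro l hl
    have hlb := L1_b D hl
    have hχ : ∀ x ∈ L3 L1 τ, ∃ e ∈ zpowers t1, l * x = e * (x * l) := by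
      intro x hx
      have hxb := hL3b x hx
      have h1 := hNN _ (hNmem l hlb (L1_t1 D hl) (Or.inl hl) hlb) _
        (hNmem x hxb (hL3t x hx) (Or.inr hx) hxb)
      rw [← map_commutatorElement] at h1
      obtain ⟨i, hi⟩ := mem_zpowers_iff.1 h1
      rw [← map_zpow] at hi
      have h2 := mk_eq_iff.1 hi
      simp only [SubgroupClass.coe_zpow, mk] at h2
      obtain ⟨j, hj⟩ := mem_zpowers_iff.1 h2
      have hco : (⁅mk l hlb, mk x hxb⁆ : ↥C).1 = l * x * l⁻¹ * x⁻¹ := by simp [mk, commutatorElement_def]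
      have hj' : l * x * l⁻¹ = t1 ^ i * b ^ j * x := by
        rw [hj, hco]; group
      have hbj : b ^ j = 1 := by
        have c0 : Commute (t1 ^ i * b ^ j) x :=
          ((hL3t x hx).symm.zpow_left i).mul_left (hxb.symm.zpow_left j)
        have h4 : (l * x * l⁻¹) ^ 4 = 1 := by rw [conj_pow, hL3four x hx]; group
        rw [hj', c0.mul_pow, hL3four x hx, mul_one,
          ((show Commute t1 b from D.t1_b).zpow_zpow i j).mul_pow] at h4
        have ht4 : (t1 ^ i) ^ 4 = 1 := by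
          rw [← zpow_natCast, ← zpow_mul, mul_comm, zpow_mul, zpow_natCast,
            show t1 ^ 4 = 1 from L1_four D D.base.t1_mem, one_zpow]
        rw [ht4, one_mul] at h4
        refine eq_one_two_three (n := 2) h4 ?_
        rw [← zpow_natCast, ← zpow_mul, mul_comm, zpow_mul, zpow_natCast, D.b3, one_zpow]
      refine ⟨t1 ^ i, zpow_mem (mem_zpowers _) i, ?_⟩
      rw [hbj, mul_one] at hj'
      calc l * x = l * x * l⁻¹ * l := by group
        _ = _ := by rw [hj', mul_assoc]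
    intro x hx
    have hle : L3 L1 τ ≤ centralizer ({l} : Set G) := by
      intro x hx
      obtain ⟨m, hm, rfl⟩ := (hL3 x).1 hx
      obtain ⟨n, hn, e, he, rfl⟩ := L1_gen D hm
      obtain ⟨c, hc, ec⟩ := hχ _ ((hL3 _).2 ⟨n, hn, rfl⟩)
      set x0 := τ * n * τ⁻¹ with hx0
      have hlz : Commute l z := L1_z D hl
      have hcz : Commute c z := by
        obtain ⟨i, rfl⟩ := mem_zpowers_iff.1 hc
        exact (L1_z D D.base.t1_mem).zpow_left i
      have hcx : Commute c x0⁻¹ := by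
        obtain ⟨i, rfl⟩ := mem_zpowers_iff.1 hc
        exact ((hL3t x0 ((hL3 _).2 ⟨n, hn, rfl⟩)).symm.zpow_left i).inv_right
      have ez : l * (z * x0 * z⁻¹) = c * ((z * x0 * z⁻¹) * l) := by
        calc l * (z * x0 * z⁻¹) = (l * z) * x0 * z⁻¹ := by group
          _ = z * (l * x0) * z⁻¹ := by rw [hlz.eq]; group
          _ = (z * c) * x0 * (l * z⁻¹) := by rw [ec]; group
          _ = c * z * x0 * (z⁻¹ * l) := by rw [← hcz.eq, hlz.inv_right.eq]
          _ = _ := by group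
      have hle' : Commute l (x0⁻¹ * (z * x0 * z⁻¹)) := by
        show l * (x0⁻¹ * (z * x0 * z⁻¹)) = _
        have e1 : l * x0⁻¹ = c⁻¹ * (x0⁻¹ * l) := by
          have : x0⁻¹ * (l * x0) * x0⁻¹ = x0⁻¹ * (c * (x0 * l)) * x0⁻¹ := by rw [ec]
          rw [← mul_assoc x0⁻¹ c, ← hcx.eq] at this
          calc l * x0⁻¹ = c⁻¹ * (c * x0⁻¹ * (x0 * l) * x0⁻¹) := by group
            _ = _ := by rw [← this]; group
        calc l * (x0⁻¹ * (z * x0 * z⁻¹)) = (l * x0⁻¹) * (z * x0 * z⁻¹) := by group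
          _ = c⁻¹ * x0⁻¹ * (l * (z * x0 * z⁻¹)) := by rw [e1]; group
          _ = c⁻¹ * (x0⁻¹ * c) * ((z * x0 * z⁻¹) * l) := by rw [ez]; group
          _ = _ := by rw [← hcx.eq]; group
      have heq : τ * (n⁻¹ * (y⁻¹ * n * y) * e) * τ⁻¹ = x0⁻¹ * (z * x0 * z⁻¹) * (τ * e * τ⁻¹) := by
        rw [hx0, hzL3 n hn]; group
      rw [heq, mem_centralizer_singleton_iff]
      obtain ⟨i, rfl⟩ := mem_zpowers_iff.1 he
      rw [show τ * t1 ^ i * τ⁻¹ = t1 ^ i by rw [(hτt.zpow_right i).eq, mul_inv_cancel_right]]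
      exact (hle'.mul_right ((L1_t1 D hl).zpow_right i)).symm.eq
    exact (mem_centralizer_singleton_iff.1 (hle hx)).symm
  refine ⟨hcomm, ?_⟩
  intro K hK2 hKt hKb hL1K hzK hk
  -- `N` is the image of the product
  have hint : ∀ x ∈ L3 L1 τ, x ∈ L1 → x ∈ zpowers t1 := fun x hx hx1 => by
    obtain ⟨m, hm, rfl⟩ := (hL3 x).1 hx
    have h := L1_z D hx1
    have e : y⁻¹ * m * y = m := by
      have := hzL3 m hm
      rw [h.symm.eq, mul_inv_cancel_right] at this
      exact mul_left_cancel (mul_right_cancel this.symm)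
    rcases L1_y D hm (show m * y = y * m by
      calc m * y = y * (y⁻¹ * m * y) := by group
        _ = _ := by rw [e]) with rfl | rfl
    · rw [mul_one, mul_inv_cancel]; exact one_mem _
    · rw [hτt.eq, mul_inv_cancel_right]; exact mem_zpowers _
  let F : ↥L1 × ↥(L3 L1 τ) →* Xq b := MonoidHom.noncommCoprod
    (π.comp (Subgroup.inclusion fun l hl => mem_centralizer_singleton_iff.2 (L1_b D hl).eq))
    (π.comp (Subgroup.inclusion fun x hx => mem_centralizer_singleton_iff.2 (hL3b x hx).eq))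
    (fun l x => (show Commute _ _ from Subtype.ext (hcomm l l.2 x x.2)).map π)
  have hFN : F.range = N := by
    refine eq_of_le_of_card_ge ?_ ?_
    · rintro _ ⟨⟨l, x⟩, rfl⟩
      exact mul_mem (hNmem l (L1_b D l.2) (L1_t1 D l.2) (Or.inl l.2) (L1_b D l.2))
        (hNmem x (hL3b x x.2) (hL3t x x.2) (Or.inr x.2) (hL3b x x.2))
    · have hkc : Nat.card F.ker ≤ 2 := by
        have hsub : ∀ p : ↥F.ker, ((p : ↥L1 × ↥(L3 L1 τ)).1 : G) ∈ zpowers t1 ∧
            ((p : ↥L1 × ↥(L3 L1 τ)).2 : G) = ((p : ↥L1 × ↥(L3 L1 τ)).1 : G)⁻¹ := by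
          rintro ⟨⟨⟨l, hl⟩, ⟨x, hx⟩⟩, hp⟩
          rw [MonoidHom.mem_ker] at hp
          have hp' : π (mk l (L1_b D hl) * mk x (hL3b x hx)) = 1 := by rw [map_mul]; exact hp
          have h1 : l * x = 1 := hker _ hp' 2 (by
            show (l * x) ^ 4 = 1
            rw [(show Commute l x from hcomm l hl x hx).mul_pow, L1_four D hl, hL3four x hx, one_mul])
          have hxe : x = l⁻¹ := (inv_eq_of_mul_eq_one_right h1).symm
          refine ⟨?_, hxe⟩
          have := hint x hx (hxe ▸ inv_mem hl)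
          rwa [hxe, inv_mem_iff] at this
        refine (Nat.card_le_card_of_injective
          (fun p => (⟨_, (hsub p).1⟩ : ↥(zpowers t1))) fun p q e => ?_).trans
          (by rw [Nat.card_zpowers, D.base.t1_two])
        have e' := congrArg Subtype.val e
        simp only at e'
        refine Subtype.ext (Prod.ext (Subtype.ext e') (Subtype.ext ?_))
        rw [(hsub p).2, (hsub q).2, e']
      have h := F.ker.card_mul_index
      rw [Subgroup.index_ker, Nat.card_prod] at h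
      have hL : Nat.card L1 = 8 := by
        obtain ⟨e⟩ := D.base.L1_quat
        rw [Nat.card_congr e.toEquiv, Nat.card_eq_fintype_card, QuaternionGroup.card]
      have hL3c : Nat.card (L3 L1 τ) = 8 := by
        rw [L3, Subgroup.card_map_of_injective (MulAut.conj τ).injective, hL]
      rw [hL, hL3c] at h
      have := Nat.le_of_dvd (by norm_num) hN32
      nlinarith
  obtain ⟨k, hkK, hkz⟩ := hk
  -- some commutator with `z` leaves `L1`
  have hkey : ∃ x ∈ L3 L1 τ, x ∈ K ∧ x ∉ zpowers t1 := by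
    have hkb : Commute k b := mem_centralizer_singleton_iff.1 (hKb hkK)
    have hmem : ⁅k, z⁆ ∈ K := by
      rw [show ⁅k, z⁆ = k * (z * k⁻¹ * z⁻¹) by rw [commutatorElement_def]; group]
      exact mul_mem hkK ((mem_normalizer_iff.1 hzK _).1 (inv_mem hkK))
    obtain ⟨n, hn⟩ : ∃ n, ⁅k, z⁆ ^ 2 ^ n = 1 := by
      obtain ⟨n, hn⟩ := hK2 ⟨_, hmem⟩
      exact ⟨n, congrArg Subtype.val hn⟩
    have hN' : π ⁅mk k hkb, mk z hzb⁆ ∈ F.range := by
      rw [hFN, map_commutatorElement]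
      refine hNc _ _ (hscomm k hkb (mem_centralizer_singleton_iff.1 (hKt hkK)))
        (hscomm z hzb (L1_z D D.base.t1_mem).symm) ?_ ⟨n, ?_⟩
      · rw [← map_pow, show mk z hzb ^ 3 = 1 from Subtype.ext D.z3, map_one]
      · rw [← map_commutatorElement, ← map_pow, show ⁅mk k hkb, mk z hzb⁆ ^ 2 ^ n = 1 from
          Subtype.ext (by simpa [mk, commutatorElement_def] using hn), map_one]
    obtain ⟨⟨⟨l, hl⟩, ⟨x, hx⟩⟩, hlx⟩ := hN'
    have hlx' : π (mk l (L1_b D hl) * mk x (hL3b x hx)) = π ⁅mk k hkb, mk z hzb⁆ := by rw [map_mul]; exact hlx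
    have hd := mk_eq_iff.1 hlx'
    have hco : ((⁅mk k hkb, mk z hzb⁆ : ↥C) : G) = ⁅k, z⁆ := by simp [mk, commutatorElement_def]
    rw [hco] at hd
    simp only [Subgroup.coe_mul, mk] at hd
    obtain ⟨j, hj⟩ := mem_zpowers_iff.1 hd
    have e : ⁅k, z⁆ = l * x * b ^ j := by rw [hj]; group
    have hbj : b ^ j = 1 := by
      refine eq_one_two_three (n := n + 2) ?_
        (by rw [← zpow_natCast, ← zpow_mul, mul_comm, zpow_mul, zpow_natCast, D.b3, one_zpow])
      have c1 : Commute (l * x) (b ^ j) := ((L1_b D hl).mul_left (hL3b x hx)).zpow_right j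
      have h : ⁅k, z⁆ ^ 2 ^ (n + 2) = 1 := by rw [pow_add, pow_mul, hn, one_pow]
      have h4 : (l * x) ^ 4 = 1 := by
        rw [(show Commute l x from hcomm l hl x hx).mul_pow, L1_four D hl, hL3four x hx, one_mul]
      rw [e, c1.mul_pow, show 2 ^ (n + 2) = 4 * 2 ^ n by ring, pow_mul (l * x), h4, one_pow, one_mul] at h
      rw [show 2 ^ (n + 2) = 4 * 2 ^ n by ring]
      exact h
    rw [hbj, mul_one] at e
    have hxK : x ∈ K := by
      have := mul_mem (inv_mem (hL1K hl)) hmem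
      rwa [e, inv_mul_cancel_left] at this
    refine ⟨x, hx, hxK, fun hx1 => hkz ?_⟩
    -- otherwise the commutator commutes with `z`
    have hcz : Commute ⁅k, z⁆ z := by
      rw [e]
      refine (L1_z D hl).mul_left ?_
      obtain ⟨i, rfl⟩ := mem_zpowers_iff.1 hx1
      exact (L1_z D D.base.t1_mem).zpow_left i
    have e2 : k * z * k⁻¹ = ⁅k, z⁆ * z := by rw [commutatorElement_def]; group
    have h3 : ⁅k, z⁆ ^ 3 = 1 := by
      have : (k * z * k⁻¹) ^ 3 = 1 := by rw [conj_pow, D.z3]; group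
      rwa [e2, hcz.mul_pow, D.z3, mul_one] at this
    exact commutatorElement_eq_one_iff_commute.1 (eq_one_two_three hn h3)
  obtain ⟨x, hx, hxK, hx1⟩ := hkey
  obtain ⟨m, hm, rfl⟩ := (hL3 x).1 hx
  have hm1 : m ∉ zpowers t1 := fun h => hx1 (by
    obtain ⟨i, rfl⟩ := mem_zpowers_iff.1 h
    rw [(hτt.zpow_right i).eq, mul_inv_cancel_right]
    exact zpow_mem (mem_zpowers _) i)
  have hle : L1 ≤ K.comap (MulAut.conj τ).toMonoidHom := by
    refine L1_le_of_mem D ?_ hm ?_ hm1 ?_ <;>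
      simp only [mem_comap, MulEquiv.coe_toMonoidHom, MulAut.conj_apply]
    · rw [hτt.eq, mul_inv_cancel_right]; exact hL1K D.base.t1_mem
    · exact hxK
    · rw [← hzL3 m hm]; exact (mem_normalizer_iff.1 hzK _).1 hxK
  exact Subgroup.map_le_iff_le_comap.2 hle

end Cfsg.Agent.FFourLocal.Kill
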