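import Cfsg.Agent.Lib.FFourLocal.Kill.SigBase

/-!
# The largest invariant 2-subgroup: the product of the four quaternion groups at the points
-/

set_option autoImplicit false
set_option linter.unusedSectionVars false
set_option linter.style.haveILetI false
set_option maxRecDepth 100000
set_option synthInstance.maxSize 10000

namespace Cfsg.Agent.FFourLocal.Kill

open Subgroup
open scoped commutatorElement
open Cfsg.Agent.NineSym (V3 Wt wact wact_mul)

universe u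

theorem pt_moves : ∀ i : Fin 4, ∃ w : Wt, wact w (1, 1, 1) = pt i := by decide +kernel

theorem pt_pairs : ∀ i j : Fin 4, i ≠ j → ∃ w : Wt,
    (wact w (pt 0) = pt i ∨ wact w (pt 0) = -pt i) ∧
      (wact w (pt 1) = pt j ∨ wact w (pt 1) = -pt j) := by
  decide +kernel

theorem full_pt : ∀ v : V3, Full v → ∃ i : Fin 4, v = pt i ∨ v = -pt i := by decide +kernel

theorem axis_sum : ∀ (w : Wt) (u : V3), wact w u = (1, 0, 0) → u.1 + u.2.1 + u.2.2 ≠ 0 := by
  decide +kernel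

theorem span_three : ∀ u v : V3, u.1 + u.2.1 + u.2.2 ≠ 0 → ∃ i j k : Fin 3,
    (i : ℕ) • u + ((j : ℕ) • ((1, 1, 1) : V3) + (k : ℕ) • ((0, 1, -1) : V3)) = v := by
  decide +kernel

theorem shift_cycle : ∀ (w : Wt) (k : Fin 3), k ≠ 0 → wact w (1, 1, 1) = (1, 1, 1) →
    wact w (0, 1, -1) = (k : ℕ) • ((1, 1, 1) : V3) + (0, 1, -1) →
    (∃ i : Fin 4, i ≠ 1 ∧ (wact w (pt 1) = pt i ∨ wact w (pt 1) = -pt i)) ∧
      ∀ i : Fin 4, i ≠ 0 →
        (pt 1 = pt i ∨ pt 1 = -pt i) ∨ (wact w (pt 1) = pt i ∨ wact w (pt 1) = -pt i) ∨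
          (wact (w * w) (pt 1) = pt i ∨ wact (w * w) (pt 1) = -pt i) := by
  decide +kernel

variable {G : Type u} [Group G] [Finite G] {Z Q Q1 Q2 L1 L2 E : Subgroup G}
  {t1 t2 z y a b τ : G} {c : V3 → G}

theorem cd_pow (hc : Coord a t1 z b E c) (v : V3) : ∀ n : ℕ, c (n • v) = c v ^ n
  | 0 => by rw [zero_smul, cd_zero hc, pow_zero]
  | n + 1 => by rw [succ_nsmul, hc.add, cd_pow hc v n, pow_succ]

/-- An element of `Q2` outside `⟨z, b⟩` cycles the three points other than `z`. -/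
theorem Q2_act (D : Local Z Q Q1 Q2 L1 L2 E t1 t2 z y a b) (hc : Coord a t1 z b E c) {v : G}
    (hv : v ∈ Q2) (hne : ⁅b, v⁆ ≠ 1) :
    ∃ w, Act E t1 c v w ∧ ∃ k : Fin 3, k ≠ 0 ∧ wact w (1, 1, 1) = (1, 1, 1) ∧
      wact w (0, 1, -1) = (k : ℕ) • ((1, 1, 1) : V3) + (0, 1, -1) := by
  have hva : v * a = a * v := (D.base.Q_comm a D.a_mem v hv).symm
  have hvz : v * z = z * v := (D.base.Z_comm (D.base.le2 hv) D.z_mem).eq
  have hz' : ⁅b, v⁆ ∈ Z := D.base.br_mem D.b_Q (D.base.le2 hv)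
  have hcb : v * b * v⁻¹ = ⁅v, b⁆ * b := by rw [commutatorElement_def]; group
  have hvbZ : ⁅v, b⁆ ∈ Z := D.base.br_mem (D.base.le2 hv) D.b_Q
  have hyv : y * v * y⁻¹ ∈ Q2 :=
    (D.factors_of_fix D.y_cent (D.fix_mod_of_comm D.y_a)).2 v hv
  obtain ⟨i, u, hu, e⟩ := D.base.flag D.base.le2 D.base.card2 D.base.Z2 D.b_mem hv hz' hne rfl
    D.y_cent hyv (D.fix_mod_of_comm D.y_b)
  have hyE : v * y * v⁻¹ ∈ E := by
    have hvu : Commute v u := D.base.Z_comm (D.base.le2 hv) hu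
    have e2 : v * y * v⁻¹ = (b ^ (i : ℕ) * u)⁻¹ * y := by
      calc v * y * v⁻¹ = v * (y * v * y⁻¹)⁻¹ * y := by group
        _ = v * (b ^ (i : ℕ) * (v * u))⁻¹ * y := by rw [e, mul_assoc (b ^ (i : ℕ))]
        _ = v * (b ^ (i : ℕ) * (u * v))⁻¹ * y := by rw [hvu.eq]
        _ = _ := by group
    rw [e2]
    exact mul_mem (inv_mem (mul_mem (pow_mem D.b_E' _) (by
      rw [← D.z_gen] at hu; exact zpowers_le.2 D.z_E hu))) D.y_E'
  have hnE : v ∈ normalizer (E : Set G) := by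
    refine Subgroup.mem_normalizer_fintype fun g hg => ?_
    have hle : E ≤ E.comap (MulAut.conj v).toMonoidHom := by
      refine D.E_eq.le.trans (sup_le (sup_le (sup_le ?_ ?_) ?_) ?_) <;>
        rw [zpowers_le, mem_comap, MulEquiv.coe_toMonoidHom, MulAut.conj_apply]
      · rw [hvz, mul_inv_cancel_right]; exact D.z_E
      · rw [hva, mul_inv_cancel_right]; exact D.a_E'
      · rw [hcb]
        exact mul_mem (by rw [← D.z_gen] at hvbZ; exact zpowers_le.2 D.z_E hvbZ) D.b_E'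
      · exact hyE
    have := hle hg
    simp only [mem_comap, MulEquiv.coe_toMonoidHom, MulAut.conj_apply] at this
    exact this
  obtain ⟨w, hw⟩ := hc.norm v hva hnE
  refine ⟨w, ⟨hnE, (L1_comm_Q2 D D.base.t1_mem hv).symm, hw⟩, ?_⟩
  obtain ⟨m, hm⟩ : ∃ m : ℕ, z ^ m = ⁅v, b⁆ := by
    rw [← D.z_gen] at hvbZ
    exact (mem_powers_iff_mem_zpowers.2 hvbZ : ⁅v, b⁆ ∈ Submonoid.powers z)
  rw [pow_mod_three D.z3] at hm
  refine ⟨⟨m % 3, Nat.mod_lt _ (by norm_num)⟩, fun h => hne ?_, hc.inj ?_, hc.inj ?_⟩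
  · have h0 : m % 3 = 0 := congrArg Fin.val h
    rw [h0, pow_zero] at hm
    rw [← commutatorElement_inv v b, ← hm, inv_one]
  · rw [← hw, hc.map_z, hvz, mul_inv_cancel_right]
  · rw [← hw, hc.map_b, hc.add, cd_pow hc, hc.map_z, hc.map_b, hcb, ← hm]

/-- The largest invariant 2-subgroup and its properties. -/
theorem exists_sig (D : Local Z Q Q1 Q2 L1 L2 E t1 t2 z y a b) (hc : Coord a t1 z b E c)
    (h1 : c (1, 0, 0) = y) (h2 : c (0, 1, 1) = y⁻¹ * z) (hax : Axis a E c)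
    (hτ : Tau E t1 t2 z y a b τ) (hcomm : ∀ l ∈ L1, ∀ x ∈ L3 L1 τ, l * x = x * l) :
    ∃ R, Sig Q2 L1 E t1 z y b τ R := by
  haveI : Fact (Nat.Prime 2) := ⟨Nat.prime_two⟩
  have hM0 : IsMax E t1 (c (1, 1, 1)) L1 := by rw [hc.map_z]; exact L1_isMax D
  have hex : ∀ i, ∃ M, IsMax E t1 (c (pt i)) M := fun i => by
    obtain ⟨w, hw⟩ := pt_moves i
    obtain ⟨n, hn⟩ := exists_act hc w
    exact ⟨cS n L1, hw ▸ hM0.act hc hn⟩
  choose Lp hLp using hex
  have hsign : ∀ {i : Fin 4} {v : V3} {M : Subgroup G}, (v = pt i ∨ v = -pt i) →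
      IsMax E t1 (c v) M → M = Lp i := by
    rintro i v M (rfl | rfl) hM
    · exact hM.uniq (hLp i)
    · exact hM.uniq (by rw [cd_neg hc]; exact (hLp i).inv_pt)
  have hL0 : L1 = Lp 0 := hsign (Or.inl rfl) hM0
  -- the second point
  obtain ⟨wt, hwt⟩ := hc.norm τ hτ.a_comm hτ.mem
  have hτA : Act E t1 c τ wt := ⟨hτ.mem, hτ.t1_comm, hwt⟩
  have hw : τ * z * τ⁻¹ = c (pt 1) := by
    rw [show τ * z * τ⁻¹ = (τ * y * τ⁻¹) * (τ * (y⁻¹ * z) * τ⁻¹) by group, hτ.y_comm,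
      mul_inv_cancel_right, hτ.inv,
      show pt 1 = ((1, 0, 0) : V3) + -(0, 1, 1) by decide, hc.add, cd_neg hc, h1, h2]
  have hw' : wact wt (1, 1, 1) = pt 1 := hc.inj (by rw [← hwt, hc.map_z, hw])
  have hM1 : IsMax E t1 (c (pt 1)) (L3 L1 τ) := hw' ▸ hM0.act hc hτA
  have hL1 : L3 L1 τ = Lp 1 := hsign (Or.inl rfl) hM1
  have hpair : ∀ i j, i ≠ j → ∀ x ∈ Lp i, ∀ x' ∈ Lp j, x * x' = x' * x := by
    intro i j hij x hx x' hx'
    obtain ⟨w, hwi, hwj⟩ := pt_pairs i j hij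
    obtain ⟨n, hn⟩ := exists_act hc w
    rw [← hsign hwi (IsMax.act hc hn (v := pt 0) hM0)] at hx
    rw [← hsign hwj (IsMax.act hc hn hM1)] at hx'
    obtain ⟨l, hl, rfl⟩ := hx
    obtain ⟨l', hl', rfl⟩ := hx'
    rw [← map_mul, ← map_mul, hcomm l hl l' hl']
  have hcent : ∀ i j, i ≠ j → Lp i ≤ centralizer (Lp j : Set G) := fun i j hij x hx =>
    mem_centralizer_iff.2 fun x' hx' => (hpair i j hij x hx x' hx').symm
  set R := Lp 0 ⊔ Lp 1 ⊔ Lp 2 ⊔ Lp 3
  have hLR : ∀ i, Lp i ≤ R := by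
    intro i
    fin_cases i
    · exact le_sup_left.trans (le_sup_left.trans le_sup_left)
    · exact le_sup_right.trans (le_sup_left.trans le_sup_left)
    · exact le_sup_right.trans le_sup_left
    · exact le_sup_right
  have hRle : ∀ {H : Subgroup G}, (∀ i, Lp i ≤ H) → R ≤ H := fun h =>
    sup_le (sup_le (sup_le (h 0) (h 1)) (h 2)) (h 3)
  have hR : Inv2 E t1 R := by
    refine ⟨?_, hRle fun i => (hLp i).inv.le, fun u hu => ?_⟩
    · have c10 : Lp 1 ≤ centralizer (Lp 0 : Set G) := hcent 1 0 (by decide)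
      have c2 : Lp 2 ≤ centralizer ((Lp 0 ⊔ Lp 1 : Subgroup G) : Set G) :=
        le_centralizer_iff.1 (sup_le (hcent 0 2 (by decide)) (hcent 1 2 (by decide)))
      have c3 : Lp 3 ≤ centralizer ((Lp 0 ⊔ Lp 1 ⊔ Lp 2 : Subgroup G) : Set G) :=
        le_centralizer_iff.1 (sup_le (sup_le (hcent 0 3 (by decide)) (hcent 1 3 (by decide)))
          (hcent 2 3 (by decide)))
      exact IsPGroup.to_sup_of_normal_left' (IsPGroup.to_sup_of_normal_left'
        (IsPGroup.to_sup_of_normal_left' (hLp 0).inv.two (hLp 1).inv.two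
          (c10.trans (centralizer_le_normalizer _))) (hLp 2).inv.two
          (c2.trans (centralizer_le_normalizer _))) (hLp 3).inv.two
          (c3.trans (centralizer_le_normalizer _))
    · refine Subgroup.mem_normalizer_fintype fun x hx => ?_
      have h : R ≤ R.comap (MulAut.conj u).toMonoidHom := hRle fun i x hx => hLR i
        ((mem_normalizer_iff.1 ((hLp i).inv.inv hu) x).1 hx)
      exact h hx
  have hL1R : L1 ≤ R := hL0 ▸ hLR 0
  have ht : t1 ∈ R := hL1R D.base.t1_mem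
  have hpoint : ∀ {K : Subgroup G}, Inv2 E t1 K → ∀ v, Full v → ∀ x ∈ K, Commute x (c v) →
      ∃ i, (v = pt i ∨ v = -pt i) ∧ x ∈ Lp i := by
    intro K hK v hv x hx hxv
    obtain ⟨i, hi⟩ := full_pt v hv
    refine ⟨i, hi, (hLp i).top _ (hK.inf_cent hc (pt i)) inf_le_right
      (mem_inf.2 ⟨hx, mem_centralizer_singleton_iff.2 ?_⟩)⟩
    rcases hi with rfl | rfl
    · exact hxv
    · rw [cd_neg hc] at hxv; exact Commute.inv_right_iff.1 hxv
  have htop : ∀ K, Inv2 E t1 K → K ≤ R := fun K hK =>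
    le_of_points D hc h1 h2 hax hK ht fun v hv x hx hxv => by
      obtain ⟨i, -, hi⟩ := hpoint hK v hv x hx hxv
      exact hLR i hi
  -- a point's group meets the centralizer of `y` in `⟨t1⟩`
  have haxis : ∀ i, ∀ x ∈ Lp i, Commute x y → x ∈ zpowers t1 := by
    intro i x hx hxy
    obtain ⟨w, hwi⟩ := pt_moves i
    obtain ⟨n, hn⟩ := exists_act hc w
    rw [← hsign (Or.inl hwi) (hM0.act hc hn)] at hx
    obtain ⟨l, hl, rfl⟩ := hx
    obtain ⟨w', hn', hww⟩ := hn.exists_inv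
    have hlu : Commute l (c (wact w' (1, 0, 0))) := by
      rw [← hn'.act, h1]
      have := hxy.map (MulAut.conj n⁻¹).toMonoidHom
      simpa [MulEquiv.coe_toMonoidHom, MulAut.conj_apply, mul_assoc] using this
    have hlA : ∀ v, Commute l (c v) := by
      intro v
      obtain ⟨i, j, k, e⟩ := span_three _ v (axis_sum w _ (hww (1, 0, 0)))
      have hz' : ((1, 1, 1) : V3) ∈ commSet hc l :=
        mem_centralizer_singleton_iff.1 (hM0.le hl)
      have hb' : ((0, 1, -1) : V3) ∈ commSet hc l := by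
        show Commute l (c (0, 1, -1))
        rw [hc.map_b]; exact L1_comm_Q2 D hl D.b_mem
      rw [← e]
      exact (commSet hc l).add_mem ((commSet hc l).nsmul_mem hlu _)
        ((commSet hc l).add_mem ((commSet hc l).nsmul_mem hz' _) ((commSet hc l).nsmul_mem hb' _))
    obtain ⟨k, rfl⟩ := mem_zpowers_iff.1
      (cent_all D hc h1 h2 hax ⟨3, L1_two D hl⟩ (L1_comm_t D hl) hlA)
    refine mem_zpowers_iff.2 ⟨k, ?_⟩
    show t1 ^ k = n * t1 ^ k * n⁻¹
    rw [((show Commute n t1 from hn.t_comm).zpow_right k).eq, mul_inv_cancel_right]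
  have hzR : ∀ v, Inv2 E t1 (R ⊓ centralizer ({c v} : Set G)) := hR.inf_cent hc
  refine ⟨R, ⟨hR, htop, hL1R, hL1 ▸ hLR 1, hcomm, ?_, ?_, fun x hx hxz => ?_, fun x hx hxw => ?_,
    fun x hx hxy => ?_⟩⟩
  · -- the conjugates by `Q2`
    intro v hv hvn x hx w' hw''
    have hne : ⁅b, v⁆ ≠ 1 := fun e => hvn (by
      have hbv : v * b = b * v := (commutatorElement_eq_one_iff_mul_comm.1 e).symm
      have hm : v ∈ zpowers b ⊔ Q1 := (D.symm.cent_Q2 (D.base.le2 hv)).1 hbv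
      have hn : Q1 ≤ normalizer ((zpowers b : Subgroup G) : Set G) := fun u hu =>
        centralizer_le_normalizer _ (mem_centralizer_iff.2 fun g hg => by
          obtain ⟨k, rfl⟩ := mem_zpowers_iff.1 hg
          exact (D.base.Q_comm u hu _ (zpow_mem D.b_mem k)).symm)
      rw [← SetLike.mem_coe, coe_mul_of_right_le_normalizer_left (zpowers b) Q1 hn] at hm
      obtain ⟨p, hp, u, hu, rfl⟩ := hm
      have hu2 : u ∈ Q2 := by
        have := mul_mem (inv_mem (zpowers_le.2 D.b_mem hp)) hv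
        rwa [inv_mul_cancel_left] at this
      have huZ := D.base.inf_factors hu hu2
      rw [← D.z_gen] at huZ
      exact mul_mem (mem_sup_right hp) (mem_sup_left huZ))
    obtain ⟨w, hA, k, hk, e1, e2⟩ := Q2_act D hc hv hne
    obtain ⟨i, hi, hwi⟩ := (shift_cycle w k hk e1 e2).1
    rw [hL1] at hx
    have hmem : v * w' * v⁻¹ ∈ Lp i := by
      rw [← hsign hwi (hM1.act hc hA)]; exact conj_mem_cS hw''
    exact hpair 1 i (fun e => hi e.symm) x hx _ hmem
  · -- generation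
    intro H hH1 hH
    obtain ⟨s, hs, hbs⟩ := D.base.exists_partner D.base.le2
      (fun u hu v hv => (D.base.Q_comm v hv u hu).symm)
      (by rw [sup_comm]; exact D.base.Q_prod) D.b_mem D.b_not D.z_mem
    obtain ⟨w, hA, k, hk, e1, e2⟩ := Q2_act D hc hs (by rw [hbs]; exact D.z_ne)
    have hcS : ∀ v ∈ Q2, cS v (L3 L1 τ) ≤ H := by
      rintro v hv _ ⟨x, hx, rfl⟩
      simpa [MulAut.conj_apply] using hH v hv x hx
    refine hRle fun i => ?_
    by_cases hi : i = 0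
    · subst hi; rw [← hL0]; exact hH1
    rcases (shift_cycle w k hk e1 e2).2 i hi with h | h | h
    · rw [← hsign h hM1]
      intro x hx
      simpa using hH 1 (one_mem _) x hx
    · rw [← hsign h (hM1.act hc hA)]; exact hcS s hs
    · rw [← hsign h (hM1.act hc (hA.mul hA))]; exact hcS _ (mul_mem hs hs)
  · rw [hL0]
    refine (hLp 0).top _ (hzR _) inf_le_right (mem_inf.2 ⟨hx, mem_centralizer_singleton_iff.2 ?_⟩)
    rw [show pt 0 = ((1, 1, 1) : V3) from rfl, hc.map_z]; exact hxz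
  · refine hM1.top _ (hzR _) inf_le_right (mem_inf.2 ⟨hx, mem_centralizer_singleton_iff.2 ?_⟩)
    rw [← hw]; exact hxw
  · refine le_of_points D hc h1 h2 hax (hzR (1, 0, 0)) (mem_zpowers t1) ?_
      (mem_inf.2 ⟨hx, mem_centralizer_singleton_iff.2 (by rw [h1]; exact hxy)⟩)
    intro v hv x' hx' hxv
    obtain ⟨hxR, hxy'⟩ := mem_inf.1 hx'
    obtain ⟨i, -, hi⟩ := hpoint hR v hv x' hxR hxv
    exact haxis i x' hi (h1 ▸ mem_centralizer_singleton_iff.1 hxy')

end Cfsg.Agent.FFourLocal.Kill
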