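import Cfsg.Agent.Lib.FFourLocal.Kill.Defs
import Cfsg.Agent.Lib.Coprime.Generation

/-!
# The small case is impossible

`L2` normalizes the signalizer `R` of `t1`, `L3` the signalizer `R'` of `t2`, so `⁅L2, L3⁆` lies in both;
there the fixed points of all elements of `⟨z, y⟩` are trivial, hence `L2` centralises `L3`, and then
`L3 ≤ L1`, which is absurd.
-/

set_option autoImplicit false
set_option linter.unusedSectionVars false
set_option linter.style.haveILetI false
set_option maxRecDepth 100000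

namespace Cfsg.Agent.FFourLocal.Kill

open Subgroup
open scoped commutatorElement

universe u

variable {G : Type u} [Group G] [Finite G] {Z Q Q1 Q2 L1 L2 E : Subgroup G} {t1 t2 z y a b τ τ' : G}

theorem mem_fixA_iff {E : Subgroup G} {t x : G} : x ∈ fixA E t ↔ x ∈ E ∧ x * t = t * x := by
  rw [fixA, mem_inf, mem_centralizer_singleton_iff]

/-- An element of `C(t)` normalizing `E` normalizes the largest invariant subgroup. -/
theorem sig_invariant {R : Subgroup G} (hR : Inv2 E t1 R) (htop : ∀ K, Inv2 E t1 K → K ≤ R) {g : G}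
    (hg : g ∈ normalizer (E : Set G)) (hgt : g * t1 = t1 * g) {x : G} (hx : x ∈ R) : g * x * g⁻¹ ∈ R := by
  refine htop (R.map (MulAut.conj g).toMonoidHom) ⟨hR.two.map _, ?_, fun e he => ?_⟩ ⟨x, hx, rfl⟩
  · rintro _ ⟨r, hr, rfl⟩
    refine mem_centralizer_singleton_iff.2 ?_
    exact (((show Commute g t1 from hgt).mul_left (mem_centralizer_singleton_iff.1 (hR.le hr))).mul_left
      (show Commute g t1 from hgt).inv_left).eq
  · obtain ⟨heE, het⟩ := mem_fixA_iff.1 he
    refine Subgroup.mem_normalizer_fintype fun v hv => ?_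
    obtain ⟨r, hr, rfl⟩ := hv
    have he' : g⁻¹ * e * g ∈ fixA E t1 := by
      refine mem_fixA_iff.2 ⟨by simpa using (mem_normalizer_iff.1 (inv_mem hg) e).1 heE, ?_⟩
      exact (((show Commute g t1 from hgt).inv_left.mul_left het).mul_left hgt).eq
    refine ⟨g⁻¹ * e * g * r * (g⁻¹ * e * g)⁻¹, (mem_normalizer_iff.1 (hR.inv he') r).1 hr, ?_⟩
    simp only [MulEquiv.coe_toMonoidHom, MulAut.conj_apply]
    group

section Side

variable (D : Local Z Q Q1 Q2 L1 L2 E t1 t2 z y a b)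
include D

theorem t1_E_mem {u : G} (hu : u ∈ E) (h : u * t1 = t1 * u) : u ∈ fixA E t1 := mem_fixA_iff.2 ⟨hu, h⟩

theorem z_fix : z ∈ fixA E t1 := mem_fixA_iff.2 ⟨D.z_E, (D.base.fix_Z D.t1_cent D.z_mem).symm⟩

theorem y_fix : y ∈ fixA E t1 := mem_fixA_iff.2 ⟨D.y_E', D.y_t1.symm⟩

theorem Q2_norm {v : G} (hv : v ∈ Q2) : v ∈ normalizer (E : Set G) ∧ v * t1 = t1 * v := by
  refine ⟨?_, mem_centralizer_iff.1 (D.base.L1_cent D.base.t1_mem) v hv⟩
  obtain ⟨s, hs, hbs⟩ := D.base.exists_partner D.base.le2 (fun u hu v hv => (D.base.Q_comm v hv u hu).symm)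
    (by rw [sup_comm]; exact D.base.Q_prod) D.b_mem D.b_not D.z_mem
  obtain ⟨i, j, k, rfl⟩ :=
    (D.base.factor_coords D.base.le2 D.base.card2 D.base.Z2 D.b_mem hs D.z_mem D.z_ne hbs).1 v hv
  refine mul_mem (mul_mem (le_normalizer (pow_mem D.b_E' _)) (pow_mem ?_ _)) (le_normalizer (pow_mem D.z_E _))
  refine Subgroup.mem_normalizer_fintype fun u hu => ?_
  have hle : E ≤ E.comap (MulAut.conj s).toMonoidHom := by
    refine D.E_eq.le.trans (sup_le (sup_le (sup_le ?_ ?_) ?_) ?_) <;>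
      rw [zpowers_le, mem_comap, MulEquiv.coe_toMonoidHom, MulAut.conj_apply]
    · rw [(D.base.Z_comm (D.base.le2 hs) D.z_mem).eq, mul_inv_cancel_right]; exact D.z_E
    · rw [← D.base.Q_comm a D.a_mem s hs, mul_inv_cancel_right]; exact D.a_E'
    · have e : s * b * s⁻¹ = z⁻¹ * b := by
        rw [← hbs, commutatorElement_def]; group
      rw [e]
      exact mul_mem (inv_mem D.z_E) D.b_E'
    · obtain ⟨m, w, hw, e⟩ := D.base.flag D.base.le2 D.base.card2 D.base.Z2 D.b_mem hs D.z_mem D.z_ne hbs D.y_cent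
        ((D.factors_of_fix D.y_cent (D.fix_mod_of_comm D.y_a)).2 s hs) (D.fix_mod_of_comm D.y_b)
      have e2 : s * y * s⁻¹ = s * (b ^ (m : ℕ) * s * w)⁻¹ * y := by
        rw [← e]; group
      rw [e2, mul_inv_rev, mul_inv_rev, ← mul_assoc s w⁻¹,
        (D.base.Z_comm (D.base.le2 hs) (inv_mem hw)).eq, mul_assoc w⁻¹, mul_inv_cancel_left]
      have hwE : w ∈ E := by
        rw [← D.z_gen] at hw
        exact zpowers_le.2 D.z_E hw
      exact mul_mem (mul_mem (inv_mem hwE) (inv_mem (pow_mem D.b_E' _))) D.y_E'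
  have := hle hu
  simp only [mem_comap, MulEquiv.coe_toMonoidHom, MulAut.conj_apply] at this
  exact this

theorem L2_flag {l : G} (hl : l ∈ L2) (h : b⁻¹ * (l * b * l⁻¹) ∈ Z) : l = 1 := by
  have hla : l * a = a * l := (mem_centralizer_iff.1 (D.base.L2_cent hl) a D.a_mem).symm
  have hm : l ∈ D.stab := ⟨D.base.L2_le hl, D.fix_mod_of_comm hla, h⟩
  obtain ⟨n, hn⟩ := D.stab_pgroup ⟨l, hm⟩
  have hn' : l ^ 3 ^ n = 1 := congrArg Subtype.val hn
  obtain ⟨e⟩ := D.base.L2_quat
  have h8 : l ^ 8 = 1 := by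
    have : (⟨l, hl⟩ : ↥L2) ^ 8 = 1 := e.injective (by
      rw [map_pow, map_one]
      exact (show ∀ v : QuaternionGroup 2, v ^ 8 = 1 by decide) _)
    exact congrArg Subtype.val this
  exact orderOf_eq_one_iff.1 (Nat.eq_one_of_dvd_coprimes (Nat.Coprime.pow 3 n (show Nat.Coprime 2 3 by norm_num))
    (orderOf_dvd_of_pow_eq_one (by simpa using h8)) (orderOf_dvd_of_pow_eq_one hn'))

theorem tau_z (hτ : Tau E t1 t2 z y a b τ) : τ * z * τ⁻¹ = y * (y⁻¹ * z)⁻¹ := by
  rw [← hτ.inv, show τ * z * τ⁻¹ = (τ * y * τ⁻¹) * (τ * (y⁻¹ * z) * τ⁻¹) by group,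
    show τ * y * τ⁻¹ = y by rw [hτ.y_comm, mul_inv_cancel_right]]

theorem L3_facts (hτ : Tau E t1 t2 z y a b τ) {x : G} (hx : x ∈ L3 L1 τ) :
    x * b = b * x ∧ x * (τ * z * τ⁻¹) = τ * z * τ⁻¹ * x := by
  obtain ⟨l, hl, rfl⟩ := hx
  have hlb : Commute l b := (mem_centralizer_iff.1 (D.base.L1_cent hl) b D.b_mem).symm
  have hlz : Commute l z := D.base.fix_Z (D.base.L1_le hl) D.z_mem
  simp only [MulEquiv.coe_toMonoidHom, MulAut.conj_apply]
  refine ⟨(((show Commute τ b from hτ.b_comm).mul_left hlb).mul_left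
    (show Commute τ b from hτ.b_comm).inv_left).eq, ?_⟩
  calc τ * l * τ⁻¹ * (τ * z * τ⁻¹) = τ * (l * z) * τ⁻¹ := by group
    _ = τ * (z * l) * τ⁻¹ := by rw [hlz.eq]
    _ = _ := by group

theorem exists_noncentral :
    ∃ l ∈ L1, ∃ l' ∈ L1, l * l' ≠ l' * l := by
  obtain ⟨e⟩ := D.base.L1_quat
  obtain ⟨u, v, huv⟩ := (show ∃ u v : QuaternionGroup 2, u * v ≠ v * u by decide)
  refine ⟨e.symm u, (e.symm u).2, e.symm v, (e.symm v).2, fun h => huv ?_⟩
  refine e.symm.injective ?_
  rw [map_mul, map_mul]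
  exact Subtype.ext h

theorem pow_three_mem {v : G} (hv : v ∈ Q2) (hn : v ∉ zpowers z ⊔ zpowers b) :
    v * v ∈ Q2 ∧ v * v ∉ zpowers z ⊔ zpowers b := by
  refine ⟨mul_mem hv hv, fun h => hn ?_⟩
  have := mul_mem h h
  rwa [show v * v * (v * v) = v by
    calc v * v * (v * v) = v ^ 3 * v := by simp [pow_succ, mul_assoc]
      _ = v := by rw [D.base.cube v (D.base.le2 hv), one_mul]] at this

/-- `L2` normalizes the signalizer of `t1`. -/
theorem L2_norm_sig (hτ : Tau E t1 t2 z y a b τ) {R : Subgroup G} (hS : Sig Q2 L1 E t1 z y b τ R)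
    (hP : ∀ K : Subgroup G, IsPGroup 2 ↥K → K ≤ centralizer ({t1} : Set G) → K ≤ centralizer ({b} : Set G) →
      L1 ≤ K → z ∈ normalizer (K : Set G) → (∃ k ∈ K, k * z ≠ z * k) → L3 L1 τ ≤ K)
    {l x : G} (hl : l ∈ L2) (hx : x ∈ R) : l * x * l⁻¹ ∈ R := by
  have hlt : Commute l t1 := (D.base.L_comm t1 D.base.t1_mem l hl).symm
  have hlz : Commute l z := D.base.fix_Z (D.base.L2_le hl) D.z_mem
  have hQR : ∀ v ∈ Q2, ∀ r ∈ R, v * r * v⁻¹ ∈ R := fun v hv r hr =>
    sig_invariant hS.inv hS.top (Q2_norm D hv).1 (Q2_norm D hv).2 hr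
  suffices hmain : ∀ w ∈ L3 L1 τ, l * w * l⁻¹ ∈ R by
    have := hS.gen (R.comap (MulAut.conj l).toMonoidHom) (fun m hm => by
      simp only [mem_comap, MulEquiv.coe_toMonoidHom, MulAut.conj_apply]
      rw [← D.base.L_comm m hm l hl, mul_inv_cancel_right]
      exact hS.L1_le hm) (fun v hv w hw => by
      simp only [mem_comap, MulEquiv.coe_toMonoidHom, MulAut.conj_apply]
      rw [show l * (v * w * v⁻¹) * l⁻¹ = (l * v * l⁻¹) * (l * w * l⁻¹) * (l * v * l⁻¹)⁻¹ by group]
      exact hQR _ ((mem_normalizer_iff.1 (D.base.L2_norm hl) v).1 hv) _ (hmain w hw)) hx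
    simpa only [mem_comap, MulEquiv.coe_toMonoidHom, MulAut.conj_apply] using this
  set v := l * b * l⁻¹ with hv
  have hvQ : v ∈ Q2 := (mem_normalizer_iff.1 (D.base.L2_norm hl) b).1 D.b_mem
  by_cases hpl : v ∈ zpowers z ⊔ zpowers b
  · -- then `l` is `1` or `t2`
    have hn : zpowers b ≤ normalizer ((zpowers z : Subgroup G) : Set G) :=
      zpowers_le.2 (centralizer_le_normalizer _ (mem_centralizer_iff.2 fun w hw => by
        obtain ⟨k, rfl⟩ := mem_zpowers_iff.1 hw
        exact ((show Commute z b from D.zb).zpow_left k).eq))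
    rw [← SetLike.mem_coe, coe_mul_of_right_le_normalizer_left (zpowers z) (zpowers b) hn] at hpl
    obtain ⟨w, hw, w', hw', e⟩ := hpl
    have hwZ : w ∈ Z := D.z_gen ▸ hw
    obtain ⟨i, hi⟩ := (mem_powers_iff_mem_zpowers.2 hw' : w' ∈ Submonoid.powers b)
    have hlt' : l = 1 ∨ l = t2 := by
      have hi3 : w' = b ^ (i % 3) := hi.symm.trans (pow_mod_three D.b3 i)
      have e' : v = w * b ^ (i % 3) := by rw [← hi3]; exact e.symm
      rcases (show i % 3 = 0 ∨ i % 3 = 1 ∨ i % 3 = 2 by omega) with h | h | h <;> rw [h] at e'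
      · exfalso
        rw [pow_zero, mul_one] at e'
        refine D.b_not ?_
        have := D.base.conj_Z (inv_mem (D.base.L2_le hl)) (e' ▸ hwZ : v ∈ Z)
        rw [show l⁻¹ * v * l⁻¹⁻¹ = b by rw [hv]; group] at this
        exact this.symm ▸ (e' ▸ hwZ : v ∈ Z)
      · left
        refine L2_flag D hl ?_
        rw [← hv, e', pow_one, ← mul_assoc, (D.base.Z_comm (inv_mem D.b_Q) hwZ).eq, mul_assoc, inv_mul_cancel,
          mul_one]
        exact hwZ
      · right
        have h1 := L2_flag D (mul_mem D.base.t2_mem hl) (l := t2 * l) ?_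
        · calc l = (t2 * t2) * l := by rw [D.t2_sq, one_mul]
            _ = t2 := by rw [mul_assoc, h1, mul_one]
        · have e2 : t2 * l * b * (t2 * l)⁻¹ = w * b := by
            calc t2 * l * b * (t2 * l)⁻¹ = t2 * v * t2⁻¹ := by rw [hv]; group
              _ = (t2 * w * t2⁻¹) * ((t2 * b * t2⁻¹) * (t2 * b * t2⁻¹)) := by rw [e', pow_two]; group
              _ = w * (b⁻¹ * b⁻¹) := by rw [D.base.conj_Z D.t2_cent hwZ, D.t2_b]
              _ = w * b := by
                congr 1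
                calc b⁻¹ * b⁻¹ = (b ^ 3)⁻¹ * b := by group
                  _ = b := by rw [D.b3, inv_one, one_mul]
          rw [e2, ← mul_assoc, (D.base.Z_comm (inv_mem D.b_Q) hwZ).eq, mul_assoc, inv_mul_cancel, mul_one]
          exact hwZ
    intro w hw
    rcases hlt' with rfl | rfl
    · simpa using hS.L3_le hw
    · refine sig_invariant hS.inv hS.top ?_ hlt.eq (hS.L3_le hw)
      refine Subgroup.mem_normalizer_fintype fun u hu => ?_
      have hle : E ≤ E.comap (MulAut.conj l).toMonoidHom := by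
        refine D.E_eq.le.trans (sup_le (sup_le (sup_le ?_ ?_) ?_) ?_) <;>
          rw [zpowers_le, mem_comap, MulEquiv.coe_toMonoidHom, MulAut.conj_apply]
        · rw [D.base.conj_Z D.t2_cent D.z_mem]; exact D.z_E
        · rw [D.t2_a, mul_inv_cancel_right]; exact D.a_E'
        · rw [D.t2_b]; exact inv_mem D.b_E'
        · rw [D.y_t2, mul_inv_cancel_right]; exact D.y_E'
      have := hle hu
      simp only [mem_comap, MulEquiv.coe_toMonoidHom, MulAut.conj_apply] at this
      exact this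
  · obtain ⟨hvvQ, hvv⟩ := pow_three_mem D hvQ hpl
    set K := (R ⊓ centralizer ({v} : Set G)).map (MulAut.conj l⁻¹).toMonoidHom with hK
    have hmemK : ∀ r ∈ R, r * v = v * r → l⁻¹ * r * l ∈ K := fun r hr hrv =>
      ⟨r, mem_inf.2 ⟨hr, mem_centralizer_singleton_iff.2 hrv⟩,
        by simp only [MulEquiv.coe_toMonoidHom, MulAut.conj_apply, inv_inv]⟩
    have hback : ∀ k ∈ K, l * k * l⁻¹ ∈ R ⊓ centralizer ({v} : Set G) := by
      rintro _ ⟨r, hr, rfl⟩
      simp only [MulEquiv.coe_toMonoidHom, MulAut.conj_apply, inv_inv]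
      rw [show l * (l⁻¹ * r * l) * l⁻¹ = r by group]
      exact hr
    have hKt : K ≤ centralizer ({t1} : Set G) := by
      intro k hk
      have h1 := mem_centralizer_singleton_iff.1 (hS.inv.le (mem_inf.1 (hback k hk)).1)
      refine mem_centralizer_singleton_iff.2 ?_
      have h2 : Commute (l⁻¹ * (l * k * l⁻¹) * l) t1 :=
        (hlt.inv_left.mul_left (show Commute (l * k * l⁻¹) t1 from h1)).mul_left hlt
      rw [show l⁻¹ * (l * k * l⁻¹) * l = k by group] at h2
      exact h2.eq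
    have hKb : K ≤ centralizer ({b} : Set G) := by
      intro k hk
      have h1 := mem_centralizer_singleton_iff.1 (mem_inf.1 (hback k hk)).2
      refine mem_centralizer_singleton_iff.2 ?_
      calc k * b = l⁻¹ * ((l * k * l⁻¹) * v) * l := by rw [hv]; group
        _ = l⁻¹ * (v * (l * k * l⁻¹)) * l := by rw [h1]
        _ = b * k := by rw [hv]; group
    have hKL : L1 ≤ K := by
      intro m hm
      have := hmemK m (hS.L1_le hm) (mem_centralizer_iff.1 (D.base.L1_cent hm) v hvQ).symm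
      rwa [show l⁻¹ * m * l = m by rw [mul_assoc, D.base.L_comm m hm l hl, inv_mul_cancel_left]] at this
    have hKz : z ∈ normalizer (K : Set G) := by
      refine Subgroup.mem_normalizer_fintype fun k hk => ?_
      obtain ⟨h1, h2⟩ := mem_inf.1 (hback k hk)
      have hzv : Commute z v := (D.base.Z_comm (D.base.le2 hvQ) D.z_mem).symm
      have h3 := hmemK _ ((mem_normalizer_iff.1 (hS.inv.inv (z_fix D)) _).1 h1)
        (((hzv.mul_left (mem_centralizer_singleton_iff.1 h2)).mul_left hzv.inv_left).eq)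
      have e1 : l⁻¹ * z = z * l⁻¹ := hlz.inv_left.eq
      have e : l⁻¹ * (z * (l * k * l⁻¹) * z⁻¹) * l = z * k * z⁻¹ := by
        rw [show l⁻¹ * (z * (l * k * l⁻¹) * z⁻¹) * l = (l⁻¹ * z) * (l * k * l⁻¹) * (l⁻¹ * z)⁻¹ by group, e1]
        group
      rwa [e] at h3
    -- a fixed point of `v` outside `L1`
    obtain ⟨m, hm, m', hm', hne⟩ := exists_noncentral D
    set x0 := τ * m * τ⁻¹ with hx0
    set x1 := τ * m' * τ⁻¹ with hx1
    have hx0m : x0 ∈ L3 L1 τ := ⟨m, hm, rfl⟩
    have hx1m : x1 ∈ L3 L1 τ := ⟨m', hm', rfl⟩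
    set X := x0 * (v * x0 * v⁻¹) * (v * v * x0 * (v * v)⁻¹) with hX
    have c1 : Commute x0 (v * x0 * v⁻¹) := hS.pair v hvQ hpl x0 hx0m x0 hx0m
    have c2 : Commute x0 (v * v * x0 * (v * v)⁻¹) := hS.pair _ hvvQ hvv x0 hx0m x0 hx0m
    have hXR : X ∈ R :=
      mul_mem (mul_mem (hS.L3_le hx0m) (hQR v hvQ _ (hS.L3_le hx0m))) (hQR _ hvvQ _ (hS.L3_le hx0m))
    have hXv : X * v = v * X := by
      refine (mul_inv_eq_iff_eq_mul.1 ?_).symm
      have hv3 : v * (v * v) = 1 := by
        rw [← D.base.cube v (D.base.le2 hvQ)]; simp [pow_succ, mul_assoc]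
      calc v * X * v⁻¹ = (v * x0 * v⁻¹) * (v * v * x0 * (v * v)⁻¹) *
            ((v * (v * v)) * x0 * (v * (v * v))⁻¹) := by rw [hX]; group
        _ = (v * x0 * v⁻¹) * (v * v * x0 * (v * v)⁻¹) * x0 := by rw [hv3]; group
        _ = X := by rw [hX, ← (c1.mul_right c2).eq]; exact (mul_assoc x0 _ _).symm
    have hXz : X * z ≠ z * X := by
      intro h
      have hX1 : X ∈ L1 := hS.cent_z X hXR h
      have h1 : Commute x1 X := (hS.comm X hX1 x1 hx1m).symm
      have h2 : Commute x1 (v * x0 * v⁻¹) := hS.pair v hvQ hpl x1 hx1m x0 hx0m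
      have h3 : Commute x1 (v * v * x0 * (v * v)⁻¹) := hS.pair _ hvvQ hvv x1 hx1m x0 hx0m
      have h4 : Commute x1 (X * (v * v * x0 * (v * v)⁻¹)⁻¹ * (v * x0 * v⁻¹)⁻¹) :=
        (h1.mul_right h3.inv_right).mul_right h2.inv_right
      rw [show X * (v * v * x0 * (v * v)⁻¹)⁻¹ * (v * x0 * v⁻¹)⁻¹ = x0 by rw [hX]; group] at h4
      refine hne ?_
      have h5 : τ * (m' * m) * τ⁻¹ = τ * (m * m') * τ⁻¹ := by
        calc τ * (m' * m) * τ⁻¹ = x1 * x0 := by rw [hx0, hx1]; group
          _ = x0 * x1 := h4.eq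
          _ = _ := by rw [hx0, hx1]; group
      exact (mul_left_cancel (mul_right_cancel h5)).symm
    have h3 := hP K ((hS.inv.two.to_le inf_le_left).map _) hKt hKb hKL hKz
      ⟨_, hmemK X hXR hXv, fun h => hXz (by
        calc X * z = l * ((l⁻¹ * X * l) * z) * l⁻¹ := by
              rw [show l * ((l⁻¹ * X * l) * z) * l⁻¹ = X * (l * z * l⁻¹) by group, hlz.eq, mul_inv_cancel_right]
          _ = l * (z * (l⁻¹ * X * l)) * l⁻¹ := by rw [h]
          _ = z * X := by
              rw [show l * (z * (l⁻¹ * X * l)) * l⁻¹ = (l * z * l⁻¹) * X by group, hlz.eq, mul_inv_cancel_right])⟩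
    intro w hw
    exact (mem_inf.1 (hback w (h3 hw))).1

end Side

/-- The final contradiction. -/
theorem contradiction_of_sig (D : Local Z Q Q1 Q2 L1 L2 E t1 t2 z y a b) (hτ : Tau E t1 t2 z y a b τ)
    (hτ' : Tau E t2 t1 z (y⁻¹ * z) b a τ') {R R' : Subgroup G} (hS : Sig Q2 L1 E t1 z y b τ R)
    (hS' : Sig Q1 L2 E t2 z (y⁻¹ * z) a τ' R')
    (hP : ∀ K : Subgroup G, IsPGroup 2 ↥K → K ≤ centralizer ({t1} : Set G) → K ≤ centralizer ({b} : Set G) →
      L1 ≤ K → z ∈ normalizer (K : Set G) → (∃ k ∈ K, k * z ≠ z * k) → L3 L1 τ ≤ K)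
    (hP' : ∀ K : Subgroup G, IsPGroup 2 ↥K → K ≤ centralizer ({t2} : Set G) → K ≤ centralizer ({a} : Set G) →
      L2 ≤ K → z ∈ normalizer (K : Set G) → (∃ k ∈ K, k * z ≠ z * k) → L3 L2 τ' ≤ K) : False := by
  classical
  haveI : Fact (Nat.Prime 3) := ⟨Nat.prime_three⟩
  have hzy : y * (y⁻¹ * z) = z := mul_inv_cancel_left y z
  set w := τ * z * τ⁻¹ with hw
  have hwy : w = y * (y⁻¹ * z)⁻¹ := tau_z D hτ
  have hwE : w ∈ E := hwy ▸ mul_mem D.y_E' (inv_mem (mul_mem (inv_mem D.y_E') D.z_E))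
  have hwz : w * z = y * y := by
    rw [hwy, mul_inv_rev, inv_inv, mul_assoc, mul_assoc, (show Commute y z from D.yz).eq, inv_mul_cancel_left]
  have hw' : τ' * z * τ'⁻¹ = w⁻¹ := by
    rw [tau_z D.symm hτ', show (y⁻¹ * z)⁻¹ * z = y by
        rw [mul_inv_rev, inv_inv, mul_assoc, (show Commute y z from D.yz).eq, inv_mul_cancel_left],
      hwy, mul_inv_rev, inv_inv]
  have hysq : ∀ x : G, Commute x (y * y) → Commute x y := fun x h => by
    have := h.mul_right h
    rwa [show y * y * (y * y) = y by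
      calc y * y * (y * y) = y ^ 3 * y := by simp [pow_succ, mul_assoc]
        _ = y := by rw [D.y_cube, one_mul]] at this
  -- the normalising elements
  have hL2z : ∀ l ∈ L2, Commute l z := fun l hl => D.base.fix_Z (D.base.L2_le hl) D.z_mem
  have hyL2 : ∀ l ∈ L2, y * l * y⁻¹ ∈ L2 := fun l hl => by
    have hy2 : y ∈ fixA E t2 := mem_fixA_iff.2 ⟨D.y_E', D.y_t2.symm⟩
    refine hS'.cent_z _ ((mem_normalizer_iff.1 (hS'.inv.inv hy2) l).1 (hS'.L1_le hl)) ?_
    exact ((((show Commute y z from D.yz)).mul_left (hL2z l hl)).mul_left (show Commute y z from D.yz).inv_left).eq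
  have hEL3 : ∀ e ∈ fixA E t1, ∀ x ∈ L3 L1 τ, e * x * e⁻¹ ∈ L3 L1 τ := fun e he x hx => by
    refine hS.cent_w _ ((mem_normalizer_iff.1 (hS.inv.inv he) x).1 (hS.L3_le hx)) ?_
    have hew : Commute e w := D.E_comm e (mem_fixA_iff.1 he).1 w hwE
    exact ((hew.mul_left (show Commute x w from (L3_facts D hτ hx).2)).mul_left hew.inv_left).eq
  -- `L3` normalises `R'`
  have hR'L3 : ∀ x ∈ L3 L1 τ, ∀ r ∈ R', x * r * x⁻¹ ∈ R' := by
    rintro _ ⟨m, hm, rfl⟩ r hr
    simp only [MulEquiv.coe_toMonoidHom, MulAut.conj_apply]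
    have hτi : τ⁻¹ * r * τ ∈ R' := by
      simpa using sig_invariant hS'.inv hS'.top (inv_mem hτ.mem)
        ((show Commute τ t2 from hτ.t2_comm).inv_left.eq) hr
    have h1 := L2_norm_sig D.symm hτ' hS' hP' hm hτi
    have h2 := sig_invariant hS'.inv hS'.top hτ.mem hτ.t2_comm h1
    rwa [show τ * (m * (τ⁻¹ * r * τ) * m⁻¹) * τ⁻¹ = τ * m * τ⁻¹ * r * (τ * m * τ⁻¹)⁻¹ by group] at h2
  set I := ⁅L2, L3 L1 τ⁆ with hI
  have hIR : I ≤ R := commutator_le.2 fun l hl x hx => by
    rw [commutatorElement_def]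
    exact mul_mem (L2_norm_sig D hτ hS hP hl (hS.L3_le hx)) (inv_mem (hS.L3_le hx))
  have hIR' : I ≤ R' := commutator_le.2 fun l hl x hx => by
    rw [commutatorElement_def, show l * x * l⁻¹ * x⁻¹ = l * (x * l⁻¹ * x⁻¹) by group]
    exact mul_mem (hS'.L1_le hl) (hR'L3 x hx _ (inv_mem (hS'.L1_le hl)))
  set B := zpowers z ⊔ zpowers y with hB
  have hnI : ∀ e : G, (∀ l ∈ L2, e * l * e⁻¹ ∈ L2) → (∀ x ∈ L3 L1 τ, e * x * e⁻¹ ∈ L3 L1 τ) →
      e ∈ normalizer (I : Set G) := by
    intro e h2 h3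
    refine Subgroup.mem_normalizer_fintype fun u hu => ?_
    have hle : I ≤ I.comap (MulAut.conj e).toMonoidHom := commutator_le.2 fun l hl x hx => by
      simp only [mem_comap, MulEquiv.coe_toMonoidHom, MulAut.conj_apply]
      rw [show e * ⁅l, x⁆ * e⁻¹ = ⁅e * l * e⁻¹, e * x * e⁻¹⁆ by simp only [commutatorElement_def]; group]
      exact commutator_mem_commutator (h2 l hl) (h3 x hx)
    have := hle hu
    simp only [mem_comap, MulEquiv.coe_toMonoidHom, MulAut.conj_apply] at this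
    exact this
  have hBn : B ≤ normalizer (I : Set G) := sup_le
    (zpowers_le.2 (hnI z (fun l hl => by rw [← (hL2z l hl).eq, mul_inv_cancel_right]; exact hl)
      (hEL3 z (z_fix D))))
    (zpowers_le.2 (hnI y hyL2 (hEL3 y (y_fix D))))
  haveI hBc : IsMulCommutative ↥B := by
    rw [hB, zpowers_eq_closure, zpowers_eq_closure, ← Subgroup.closure_union]
    apply isMulCommutative_closure
    rintro u hu v hv
    rcases hu with hu | hu <;> rcases hv with hv | hv <;> rw [hu, hv]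
    exacts [(show Commute y _ from D.yz).symm.eq, (show Commute y _ from D.yz).eq]
  have hBE : B ≤ E := sup_le (zpowers_le.2 D.z_E) (zpowers_le.2 D.y_E')
  have hBnc : ¬ IsCyclic ↥B := by
    intro h
    obtain ⟨g, hg⟩ := h.exists_generator
    have hg3 : g ^ 3 = 1 := Subtype.ext (by push_cast; exact D.E_exp _ (hBE g.2))
    have hc3 : Nat.card B ≤ 3 := by
      rw [← orderOf_eq_card_of_forall_mem_zpowers hg]
      exact Nat.le_of_dvd (by norm_num) (orderOf_dvd_of_pow_eq_one hg3)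
    have he : zpowers z = B := eq_of_le_of_card_ge le_sup_left (by
      rw [Nat.card_zpowers, orderOf_three D.z3 D.z_ne]; exact hc3)
    exact D.y_not (D.base.Z_leQ (D.z_gen ▸ (he.ge (mem_sup_right (mem_zpowers y)))))
  have hI2 : IsPGroup 2 ↥I := hS.inv.two.to_le hIR
  have hcop : (Nat.card B).Coprime (Nat.card I) := by
    obtain ⟨n, hn⟩ := hI2.exists_card_eq
    rw [hn]
    exact Nat.Coprime.pow_right n (Nat.Coprime.coprime_dvd_left (D.E_card ▸ card_dvd_of_le hBE) (by norm_num))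
  -- the fixed points
  have hz2 : ∀ x ∈ I, Commute x z → x = 1 := fun x hx h => by
    have h1 := hS.cent_z x (hIR hx) h.eq
    have h2 := hS'.cent_z x (hIR' hx) h.eq
    have hx2 : ∀ u ∈ L1, u * u ∈ L1 := fun u hu => mul_mem hu hu
    have hsq : x * x = 1 := by
      have h4 : (x * x) * (x * x) = 1 := by
        obtain ⟨e⟩ := D.base.L1_quat
        have : (⟨x, h1⟩ : ↥L1) * ⟨x, h1⟩ * (⟨x, h1⟩ * ⟨x, h1⟩) = 1 := e.injective (by
          simp only [map_mul, map_one]
          exact (show ∀ v : QuaternionGroup 2, v * v * (v * v) = 1 by decide) _)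
        exact congrArg Subtype.val this
      rcases D.base.pow_four D.base.L1_quat (mul_mem h1 h1) D.base.t1_mem D.base.t1_two h4 with e | e
      · exact e
      · rcases D.base.pow_four D.base.L2_quat (mul_mem h2 h2) D.base.t2_mem D.base.t2_two h4 with e' | e'
        · exact e'
        · exfalso
          refine D.a_ne ?_
          have ht : t1 = t2 := e.symm.trans e'
          have hai : a⁻¹ = a := by
            rw [← D.t1_a, ht, D.t2_a, mul_inv_cancel_right]
          calc a = a ^ 3 * (a * a)⁻¹ := by group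
            _ = 1 := by rw [D.a3]; nth_rewrite 2 [← hai]; group
    rcases D.base.pow_four D.base.L1_quat h1 D.base.t1_mem D.base.t1_two hsq with e | e
    · exact e
    · rcases D.base.pow_four D.base.L2_quat h2 D.base.t2_mem D.base.t2_two hsq with e' | e'
      · exact e'
      · exfalso
        refine D.a_ne ?_
        have ht : t1 = t2 := e.symm.trans e'
        have hai : a⁻¹ = a := by
          rw [← D.t1_a, ht, D.t2_a, mul_inv_cancel_right]
        calc a = a ^ 3 * (a * a)⁻¹ := by group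
          _ = 1 := by rw [D.a3]; nth_rewrite 2 [← hai]; group
  have ht12 : ∀ x, x ∈ zpowers t1 → x ∈ zpowers t2 → x = 1 := fun x h1 h2 => by
    obtain ⟨i, hi⟩ := (mem_powers_iff_mem_zpowers.2 h1 : x ∈ Submonoid.powers t1)
    obtain ⟨j, hj⟩ := (mem_powers_iff_mem_zpowers.2 h2 : x ∈ Submonoid.powers t2)
    rcases Nat.even_or_odd i with ⟨k, rfl⟩ | ⟨k, rfl⟩
    · rw [← hi]
      show t1 ^ (k + k) = 1
      rw [← two_mul, pow_mul, pow_two, D.t1_sq, one_pow]
    · exfalso
      have hx : x = t1 := by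
        rw [← hi]
        show t1 ^ (2 * k + 1) = t1
        rw [pow_succ, pow_mul, pow_two, D.t1_sq, one_pow, one_mul]
      have hc : Commute x a := by
        rw [← hj]
        exact (show Commute t2 a from D.t2_a).pow_left j
      rw [hx] at hc
      refine D.a_ne ?_
      have hai : a⁻¹ = a := by rw [← D.t1_a, hc.eq, mul_inv_cancel_right]
      calc a = a ^ 3 * (a * a)⁻¹ := by group
        _ = 1 := by rw [D.a3]; nth_rewrite 2 [← hai]; group
  have hy2 : ∀ x ∈ I, Commute x y → x = 1 := fun x hx h => by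
    obtain ⟨k, hk⟩ := mem_zpowers_iff.1 (hS.cent_y x (hIR hx) h.eq)
    refine hz2 x hx ?_
    rw [← hk]
    exact (show Commute t1 z from D.base.fix_Z D.t1_cent D.z_mem).zpow_left k
  have hy2' : ∀ x ∈ I, Commute x (y⁻¹ * z) → x = 1 := fun x hx h => by
    obtain ⟨k, hk⟩ := mem_zpowers_iff.1 (hS'.cent_y x (hIR' hx) h.eq)
    refine hz2 x hx ?_
    rw [← hk]
    exact (show Commute t2 z from D.base.fix_Z D.t2_cent D.z_mem).zpow_left k
  have hw2 : ∀ x ∈ I, Commute x w → x = 1 := fun x hx h => by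
    have h1 : x ∈ L3 L2 τ' := hS'.cent_w x (hIR' hx) (by rw [hw']; exact h.inv_right.eq)
    obtain ⟨m, hm, rfl⟩ := h1
    simp only [MulEquiv.coe_toMonoidHom, MulAut.conj_apply] at hx h ⊢
    have h2 : τ' * m * τ'⁻¹ ∈ R := hIR hx
    have h3 : m ∈ R := by
      have := sig_invariant hS.inv hS.top (inv_mem hτ'.mem)
        ((show Commute τ' t1 from hτ'.t2_comm).inv_left.eq) h2
      rwa [show τ'⁻¹ * (τ' * m * τ'⁻¹) * τ'⁻¹⁻¹ = m by group] at this
    have h4 := hS.cent_z m h3 (hL2z m hm).eq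
    -- so `m` is in both quaternion groups
    have hm1 : m = 1 := by
      have q1 := D.base.L1_quat
      have q2 := D.base.L2_quat
      have key : ∀ u ∈ L1, u ∈ L2 → u * u = 1 → u = 1 := fun u u1 u2 hu => by
        rcases D.base.pow_four q1 u1 D.base.t1_mem D.base.t1_two hu with e | e
        · exact e
        · rcases D.base.pow_four q2 u2 D.base.t2_mem D.base.t2_two hu with e' | e'
          · exact e'
          · exact ht12 u (e ▸ mem_zpowers t1) (e' ▸ mem_zpowers t2)
      have h8 : m * m * (m * m) = 1 := by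
        obtain ⟨e⟩ := q1
        have : (⟨m, h4⟩ : ↥L1) * ⟨m, h4⟩ * (⟨m, h4⟩ * ⟨m, h4⟩) = 1 := e.injective (by
          simp only [map_mul, map_one]
          exact (show ∀ v : QuaternionGroup 2, v * v * (v * v) = 1 by decide) _)
        exact congrArg Subtype.val this
      exact key m h4 hm (key _ (mul_mem h4 h4) (mul_mem hm hm) h8)
    rw [hm1, mul_one, mul_inv_cancel]
  have hbot : I = ⊥ := by
    rw [← Coprime.fixedGen_eq hBnc hBn hcop, eq_bot_iff]
    refine iSup₂_le fun e he x hx => ?_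
    obtain ⟨hxI, hxe⟩ := mem_inf.1 hx
    have hc : Commute x e := mem_centralizer_singleton_iff.1 hxe
    have hn : zpowers y ≤ normalizer ((zpowers z : Subgroup G) : Set G) :=
      zpowers_le.2 (centralizer_le_normalizer _ (mem_centralizer_iff.2 fun u hu => by
        obtain ⟨k, rfl⟩ := mem_zpowers_iff.1 hu
        exact ((show Commute y z from D.yz).symm.zpow_left k).eq))
    have hem := he.1
    rw [hB, ← SetLike.mem_coe, coe_mul_of_right_le_normalizer_left (zpowers z) (zpowers y) hn] at hem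
    obtain ⟨u, hu, v, hv, rfl⟩ := hem
    obtain ⟨i, rfl⟩ := (mem_powers_iff_mem_zpowers.2 hu : u ∈ Submonoid.powers z)
    obtain ⟨j, rfl⟩ := (mem_powers_iff_mem_zpowers.2 hv : v ∈ Submonoid.powers y)
    have hc' : Commute x (z ^ (i % 3) * y ^ (j % 3)) := by
      rw [← pow_mod_three D.z3, ← pow_mod_three D.y_cube]; exact hc
    have hne : ¬ (i % 3 = 0 ∧ j % 3 = 0) := fun h => he.2 (by
      show z ^ i * y ^ j = 1
      rw [pow_mod_three D.z3, pow_mod_three D.y_cube, h.1, h.2, pow_zero, pow_zero, one_mul])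
    have sqc : ∀ g : G, g ^ 3 = 1 → Commute x (g ^ 2) → Commute x g := fun g hg h => by
      have := h.mul_right h
      rwa [show g ^ 2 * g ^ 2 = g by rw [← pow_add, show 2 + 2 = 3 + 1 from rfl, pow_add, hg, one_mul, pow_one]]
        at this
    have hy'3 : (y⁻¹ * z) ^ 3 = 1 := D.E_exp _ (mul_mem (inv_mem D.y_E') D.z_E)
    have hzy' : z * (y * y) = y⁻¹ * z := by
      rw [show y * y = y⁻¹ by
        calc y * y = y ^ 3 * y⁻¹ := by simp [pow_succ, mul_assoc]
          _ = y⁻¹ := by rw [D.y_cube, one_mul]]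
      exact ((show Commute y z from D.yz).symm.inv_right).eq
    have hww : (z * z) * (y * y) = w := by
      rw [← hwz, ← mul_assoc, mul_assoc (z * z) w z, D.E_comm w hwE z D.z_E, ← mul_assoc,
        show z * z * z = z ^ 3 by simp [pow_succ, mul_assoc], D.z3, one_mul]
    rw [mem_bot]
    rcases (show (i % 3 = 0 ∨ i % 3 = 1 ∨ i % 3 = 2) ∧ (j % 3 = 0 ∨ j % 3 = 1 ∨ j % 3 = 2) by omega) with
      ⟨hi | hi | hi, hj | hj | hj⟩ <;> simp only [hi, hj, pow_zero, pow_one, one_mul, mul_one] at hc'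
    · exact absurd ⟨hi, hj⟩ hne
    · exact hy2 x hxI hc'
    · exact hy2 x hxI (sqc y D.y_cube hc')
    · exact hz2 x hxI hc'
    · refine hw2 x hxI (sqc w (D.E_exp w hwE) ?_)
      rw [← hww, show ((z * z) * (y * y)) ^ 2 = z * y by
        rw [pow_two, D.E_comm (z * z) (mul_mem D.z_E D.z_E) (y * y) (mul_mem D.y_E' D.y_E'),
          show y * y * (z * z) * (y * y * (z * z)) = (y * y) * ((z * z) * (y * y)) * (z * z) by group,
          D.E_comm (z * z) (mul_mem D.z_E D.z_E) (y * y) (mul_mem D.y_E' D.y_E'),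
          show y * y * (y * y * (z * z)) * (z * z) = (y ^ 3 * y) * (z ^ 3 * z) by simp [pow_succ, mul_assoc],
          D.z3, D.y_cube, one_mul, one_mul]
        exact D.yz.eq]
      exact hc'
    · refine hy2' x hxI ?_
      rw [← hzy', ← pow_two y]; exact hc'
    · exact hz2 x hxI (sqc z D.z3 hc')
    · refine hy2' x hxI (sqc _ hy'3 ?_)
      rw [← hzy', pow_two (z * (y * y)), D.E_comm z D.z_E (y * y) (mul_mem D.y_E' D.y_E'),
        show y * y * z * (y * y * z) = y * y * (z * (y * y)) * z by group,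
        D.E_comm z D.z_E (y * y) (mul_mem D.y_E' D.y_E'),
        show y * y * (y * y * z) * z = (y ^ 3 * y) * z ^ 2 by simp [pow_succ, mul_assoc],
        D.y_cube, one_mul, D.E_comm y D.y_E' (z ^ 2) (pow_mem D.z_E 2)]
      exact hc'
    · refine hw2 x hxI ?_
      rw [← hww, ← pow_two z, ← pow_two y]; exact hc'
  -- hence `L3 ≤ L1`
  obtain ⟨s, hs, hbs⟩ := D.base.exists_partner D.base.le2 (fun u hu v hv => (D.base.Q_comm v hv u hu).symm)
    (by rw [sup_comm]; exact D.base.Q_prod) D.b_mem D.b_not D.z_mem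
  have hsZ : s ∉ Z := fun h => D.z_ne (by
    rw [← hbs]; exact D.base.br_eq_one.2 (D.base.Z_comm D.b_Q h))
  obtain ⟨l, hl, v, hv, e⟩ := D.base.trans2 b D.b_mem D.b_not s hs hsZ
  have hsmall : L3 L1 τ ≤ zpowers t1 := by
    intro x hx
    have hxl : Commute x l := by
      have h1 : ⁅l, x⁆ = 1 := (eq_bot_iff_forall _).1 hbot _ (commutator_mem_commutator hl hx)
      exact (commutatorElement_eq_one_iff_commute.1 h1).symm
    have hxb : Commute x b := (L3_facts D hτ hx).1
    have hu : Commute x (l * b * l⁻¹) := (hxl.mul_right hxb).mul_right hxl.inv_right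
    have hz : ⁅b, l * b * l⁻¹⁆ = z := by
      rw [← hbs, show l * b * l⁻¹ = s * v⁻¹ by rw [← e, mul_inv_cancel_right]]
      have hc1 : Commute b v⁻¹ := D.base.Z_comm D.b_Q (inv_mem hv)
      calc ⁅b, s * v⁻¹⁆ = b * s * (v⁻¹ * b⁻¹) * v * s⁻¹ := by rw [commutatorElement_def]; group
        _ = ⁅b, s⁆ := by rw [hc1.symm.inv_right.eq, commutatorElement_def]; group
    have hxz : Commute x z := by
      rw [← hz, commutatorElement_def]
      exact ((hxb.mul_right hu).mul_right hxb.inv_right).mul_right hu.inv_right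
    have hxy : Commute x (y * y) := hwz ▸ (show Commute x w from (L3_facts D hτ hx).2).mul_right hxz
    exact hS.cent_y x (hS.L3_le hx) (hysq x hxy).eq
  have h8 : Nat.card ↥(L3 L1 τ) = 8 := by
    obtain ⟨q⟩ := D.base.L1_quat
    rw [L3, card_map_of_injective (MulAut.conj τ).injective, Nat.card_congr q.toEquiv, Nat.card_eq_fintype_card,
      QuaternionGroup.card]
  have h2 := Subgroup.card_le_of_le hsmall
  rw [h8, Nat.card_zpowers, D.base.t1_two] at h2
  omega

end Cfsg.Agent.FFourLocal.Kill
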