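import Cfsg.Agent.Lib.FFourLocal.Kill.SigPlane

/-!
# The point `z`: `L1` is the largest invariant 2-subgroup there
-/

set_option autoImplicit false
set_option linter.unusedSectionVars false
set_option linter.style.haveILetI false
set_option maxRecDepth 100000
set_option synthInstance.maxSize 10000

namespace Cfsg.Agent.FFourLocal.Kill

open Subgroup
open scoped commutatorElement
open Cfsg.Agent.NineSym (V3 Wt wact)

universe u

theorem card_pow_eight :
    (Finset.univ.filter fun g : Matrix.SpecialLinearGroup (Fin 2) (ZMod 3) => g ^ 8 = 1).card = 8 := by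
  decide +kernel

theorem pow_twentyfour :
    ∀ g : Matrix.SpecialLinearGroup (Fin 2) (ZMod 3), g ^ 24 = 1 := by
  decide +kernel

variable {G : Type u} [Group G] {Z Q Q1 Q2 L1 L2 E : Subgroup G} {t1 t2 z y a b : G}

theorem L1_two (D : Local Z Q Q1 Q2 L1 L2 E t1 t2 z y a b) {l : G} (hl : l ∈ L1) : l ^ 8 = 1 := by
  obtain ⟨eq⟩ := D.base.L1_quat
  have h8 : (⟨l, hl⟩ : ↥L1) ^ 8 = 1 := eq.injective (by
    rw [map_pow, map_one]; exact (show ∀ v : QuaternionGroup 2, v ^ 8 = 1 by decide) _)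
  exact congrArg Subtype.val h8

theorem L1_comm_t (D : Local Z Q Q1 Q2 L1 L2 E t1 t2 z y a b) {l : G} (hl : l ∈ L1) :
    l * t1 = t1 * l := by
  have hm : l * t1 * l⁻¹ ∈ L1 := mul_mem (mul_mem hl D.base.t1_mem) (inv_mem hl)
  have h2 : l * t1 * l⁻¹ * (l * t1 * l⁻¹) = 1 := by
    calc l * t1 * l⁻¹ * (l * t1 * l⁻¹) = l * (t1 * t1) * l⁻¹ := by group
      _ = 1 := by rw [D.t1_sq]; group
  rcases D.base.pow_four D.base.L1_quat hm D.base.t1_mem D.base.t1_two h2 with h | h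
  · have e : t1 = 1 := conj_eq_one_iff.1 h
    have := D.base.t1_two
    rw [e, orderOf_one] at this
    omega
  · exact mul_inv_eq_iff_eq_mul.1 h

theorem L1_comm_Q2 (D : Local Z Q Q1 Q2 L1 L2 E t1 t2 z y a b) {l v : G} (hl : l ∈ L1) (hv : v ∈ Q2) :
    l * v = v * l :=
  (mem_centralizer_iff.1 (D.base.L1_cent hl) v hv).symm

variable [Finite G]

/-- A 2-element commuting with `z`, `b` and `t1` lies in `L1`. -/
theorem mem_L1 (D : Local Z Q Q1 Q2 L1 L2 E t1 t2 z y a b) {x : G} (hx : Two x)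
    (hxz : x * z = z * x) (hxb : x * b = b * x) (hxt : x * t1 = t1 * x) : x ∈ L1 := by
  classical
  have S := D.symm
  obtain ⟨s, hs, hbs⟩ := S.base.exists_partner S.base.le2 (fun u hu v hv => (S.base.Q_comm v hv u hu).symm)
    (by rw [sup_comm]; exact S.base.Q_prod) S.b_mem S.b_not S.z_mem
  set C := centralizer (Z : Set G) ⊓ centralizer ({b} : Set G)
  have hxC : x ∈ C := mem_inf.2 ⟨D.mem_centZ.2 hxz, mem_centralizer_singleton_iff.2 hxb⟩
  have hLC : L1 ≤ C := le_inf D.base.L1_le fun l hl =>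
    mem_centralizer_singleton_iff.2 (L1_comm_Q2 D hl D.b_mem)
  set f := S.sl hs hbs
  have hker : ∀ u : ↥C, f u = 1 ↔ (u : G) ∈ Q := fun u => S.sl_eq_one hs hbs u
  have hdis : ∀ w : G, w ∈ Q → w ^ 8 = 1 → w = 1 := fun w hw h8 =>
    two_cube ⟨3, h8⟩ (D.base.cube w hw)
  have hinj : Function.Injective (f.comp (Subgroup.inclusion hLC)) :=
    (injective_iff_map_eq_one _).2 fun l hl =>
      Subtype.ext (hdis _ ((hker _).1 hl) (L1_two D l.2))
  let F : ↥L1 → {g : Matrix.SpecialLinearGroup (Fin 2) (ZMod 3) // g ^ 8 = 1} := fun l =>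
    ⟨f.comp (Subgroup.inclusion hLC) l, by
      rw [← map_pow, show l ^ 8 = 1 from Subtype.ext (L1_two D l.2), map_one]⟩
  have hF : Function.Surjective F := by
    refine ((Nat.bijective_iff_injective_and_card F).2 ⟨fun u v e => hinj (congrArg Subtype.val e), ?_⟩).2
    obtain ⟨eq⟩ := D.base.L1_quat
    rw [Nat.card_congr eq.toEquiv, Nat.card_eq_fintype_card, QuaternionGroup.card, Nat.card_eq_fintype_card,
      Fintype.card_subtype, card_pow_eight]
  have hfx : f ⟨x, hxC⟩ ^ 8 = 1 := by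
    obtain ⟨k, hk⟩ := hx
    have h1 : f ⟨x, hxC⟩ ^ 2 ^ k = 1 := by
      rw [← map_pow, show (⟨x, hxC⟩ : ↥C) ^ 2 ^ k = 1 from Subtype.ext hk, map_one]
    obtain ⟨i, -, hi⟩ := (Nat.dvd_prime_pow Nat.prime_two).1 (orderOf_dvd_of_pow_eq_one h1)
    have h24 := orderOf_dvd_of_pow_eq_one (pow_twentyfour (f ⟨x, hxC⟩))
    refine orderOf_dvd_iff_pow_eq_one.1 ?_
    rw [hi] at h24 ⊢
    exact (Nat.Coprime.pow_left i (by norm_num : Nat.Coprime 2 3)).dvd_of_dvd_mul_right
      (show 2 ^ i ∣ 8 * 3 from h24)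
  obtain ⟨l, hl⟩ := hF ⟨_, hfx⟩
  have hl' : f (Subgroup.inclusion hLC l) = f ⟨x, hxC⟩ := congrArg Subtype.val hl
  set q := x * (l : G)⁻¹ with hq
  have hqQ : q ∈ Q := (hker (⟨x, hxC⟩ * (Subgroup.inclusion hLC l)⁻¹)).1 (by
    rw [map_mul, map_inv, hl', mul_inv_cancel])
  have hlt : Commute (l : G) t1 := L1_comm_t D l.2
  have hqt : Commute q t1 := (show Commute x t1 from hxt).mul_left hlt.inv_left
  have hq2 : q ∈ Q2 := by
    refine (S.mem_Q1_iff hqQ).2 ?_
    rw [← hqt.eq, mul_inv_cancel_right, inv_mul_cancel]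
    exact one_mem _
  have hql : Commute q (l : G) := (L1_comm_Q2 D l.2 hq2).symm
  have hxe : x = q * l := by rw [hq, inv_mul_cancel_right]
  have hxl : Commute x (l : G) := by
    rw [hxe]; exact hql.mul_left (Commute.refl _)
  have hqTwo : Two q := hx.mul (Two.inv ⟨3, L1_two D l.2⟩) hxl.inv_right
  rw [hxe, two_cube hqTwo (D.base.cube q hqQ), one_mul]
  exact l.2

theorem L1_isMax (D : Local Z Q Q1 Q2 L1 L2 E t1 t2 z y a b) : IsMax E t1 z L1 := by
  haveI : Fact (Nat.Prime 2) := ⟨Nat.prime_two⟩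
  have hLz : ∀ l ∈ L1, l * z = z * l := fun l hl => D.base.fix_Z (D.base.L1_le hl) D.z_mem
  refine ⟨⟨?_, fun l hl => mem_centralizer_singleton_iff.2 (L1_comm_t D hl), fun u hu => ?_⟩,
    fun l hl => mem_centralizer_singleton_iff.2 (hLz l hl), fun K hK hle x hx => ?_⟩
  · exact fun l => ⟨3, Subtype.ext (L1_two D l.2)⟩
  · obtain ⟨huE, hut⟩ := mem_fixA.1 hu
    have key : ∀ g : G, g ∈ E → g * t1 = t1 * g → ∀ l ∈ L1, g * l * g⁻¹ ∈ L1 := fun g hg hgt l hl => by
      have cz : Commute g z := D.E_comm g hg z D.z_E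
      have cb : Commute g b := D.E_comm g hg b D.b_E'
      have ct : Commute g t1 := hgt
      exact mem_L1 D (Two.conj ⟨3, L1_two D hl⟩ g)
        ((cz.mul_left (hLz l hl)).mul_left cz.inv_left).eq
        ((cb.mul_left (L1_comm_Q2 D hl D.b_mem)).mul_left cb.inv_left).eq
        ((ct.mul_left (L1_comm_t D hl)).mul_left ct.inv_left).eq
    rw [mem_normalizer_iff]
    refine fun l => ⟨key u huE hut l, fun h => ?_⟩
    have := key u⁻¹ (inv_mem huE) ((show Commute u t1 from hut).inv_left.eq) _ h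
    rwa [show u⁻¹ * (u * l * u⁻¹) * u⁻¹⁻¹ = l by group] at this
  · have hxz : x * z = z * x := mem_centralizer_singleton_iff.1 (hle hx)
    have hbK : b ∈ normalizer (K : Set G) := hK.inv (mem_fixA.2 ⟨D.b_E', D.t1_b.symm⟩)
    have hK' : ⁅x, b⁆ ∈ K := by
      rw [commutatorElement_def, mul_assoc x, mul_assoc x]
      exact mul_mem hx ((mem_normalizer_iff.1 hbK _).1 (inv_mem hx))
    have hQ' : ⁅x, b⁆ ∈ Q := by
      rw [commutatorElement_def]
      exact mul_mem (D.base.conj_memQ (D.mem_centZ.2 hxz) D.b_Q) (inv_mem D.b_Q)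
    exact mem_L1 D (hK.two_mem hx) hxz
      (commutatorElement_eq_one_iff_mul_comm.1 (two_cube (hK.two_mem hK') (D.base.cube _ hQ')))
      (hK.comm_t hx)

end Cfsg.Agent.FFourLocal.Kill
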