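import Cfsg.Agent.Lib.FFourLocal.Kill.Defs
import Cfsg.Agent.Lib.Coprime.Generation

/-!
# The planes of `A` and the invariant 2-subgroups

The centralizer of a coordinate plane normalizes `E`, and an invariant 2-subgroup meets `N(E)` in
`⟨t1⟩`. So such a subgroup is generated by its parts at the four points and `t1`.
-/

set_option autoImplicit false
set_option linter.unusedSectionVars false
set_option linter.style.haveILetI false
set_option maxRecDepth 100000
set_option synthInstance.maxSize 10000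

namespace Cfsg.Agent.FFourLocal.Kill

open Subgroup
open scoped commutatorElement
open Cfsg.Agent.NineSym (V3 Wt wact wact_mul wact_one wact_add)

universe u

/-- An element of 2-power order. -/
def Two {G : Type u} [Group G] (x : G) : Prop := ∃ k : ℕ, x ^ 2 ^ k = 1

/-- The four points. -/
def pt : Fin 4 → V3 := ![(1, 1, 1), (1, -1, -1), (-1, 1, -1), (-1, -1, 1)]

/-- No coordinate is zero. -/
def Full (v : V3) : Prop := v.1 ≠ 0 ∧ v.2.1 ≠ 0 ∧ v.2.2 ≠ 0

instance (v : V3) : Decidable (Full v) := inferInstanceAs (Decidable (_ ∧ _))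

/-- The coordinates. -/
def cf : Fin 3 → V3 →+ ZMod 3 :=
  ![AddMonoidHom.fst _ _, (AddMonoidHom.fst _ _).comp (AddMonoidHom.snd _ _),
    (AddMonoidHom.snd _ _).comp (AddMonoidHom.snd _ _)]

/-- The coordinate planes. -/
def cpl : Fin 3 → V3 × V3 :=
  ![((0, 1, 0), (0, 0, 1)), ((0, 0, 1), (1, 0, 0)), ((1, 0, 0), (0, 1, 0))]

theorem plane_moves : ∀ j : Fin 3, ∃ w : Wt,
    wact w (cpl j).1 = (0, 1, 0) ∧ wact w (cpl j).2 = (0, 0, 1) := by
  decide +kernel

theorem coord_ne : ∀ v : V3, v ≠ 0 → ∃ i : Fin 3, cf i v ≠ 0 := by decide +kernel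

theorem span_cases : ∀ (i : Fin 3) (v u : V3), cf i v ≠ 0 → cf i u = 0 → u ≠ 0 →
    (∃ k l : Fin 3, Full ((k : ℕ) • v + (l : ℕ) • u)) ∨
      ∃ j : Fin 3, (∃ k l : Fin 3, (k : ℕ) • v + (l : ℕ) • u = (cpl j).1) ∧
        ∃ k l : Fin 3, (k : ℕ) • v + (l : ℕ) • u = (cpl j).2 := by
  decide +kernel

theorem plane_four : (∀ i : Fin 3, 3 < Fintype.card {v : V3 // cf i v = 0}) ∧
    3 < Fintype.card {v : V3 // (0 : V3 →+ ZMod 3) v = 0} := by
  refine ⟨by decide +kernel, ?_⟩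
  simp [Fintype.card_subtype]

variable {G : Type u} [Group G]

theorem two_cube {x : G} (h : Two x) (h3 : x ^ 3 = 1) : x = 1 := by
  obtain ⟨k, hk⟩ := h
  rw [← orderOf_eq_one_iff]
  exact Nat.eq_one_of_dvd_coprimes ((by norm_num : Nat.Coprime 2 3).pow_left k)
    (orderOf_dvd_of_pow_eq_one hk) (orderOf_dvd_of_pow_eq_one h3)

theorem Two.conj {x : G} (h : Two x) (g : G) : Two (g * x * g⁻¹) := by
  obtain ⟨k, hk⟩ := h
  exact ⟨k, by rw [conj_pow, hk]; group⟩

theorem Two.mul {x y : G} (h : Two x) (h' : Two y) (hc : Commute x y) : Two (x * y) := by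
  obtain ⟨k, hk⟩ := h
  obtain ⟨m, hm⟩ := h'
  refine ⟨k + m, ?_⟩
  rw [hc.mul_pow, pow_add, pow_mul, hk, one_pow, one_mul, mul_comm, pow_mul, hm, one_pow]

theorem Two.inv {x : G} (h : Two x) : Two x⁻¹ := by
  obtain ⟨k, hk⟩ := h
  exact ⟨k, by rw [inv_pow, hk, inv_one]⟩

theorem Inv2.two_mem {E K : Subgroup G} {t x : G} (hK : Inv2 E t K) (hx : x ∈ K) : Two x := by
  obtain ⟨k, hk⟩ := hK.two ⟨x, hx⟩
  exact ⟨k, congrArg Subtype.val hk⟩

theorem Inv2.comm_t {E K : Subgroup G} {t x : G} (hK : Inv2 E t K) (hx : x ∈ K) : x * t = t * x :=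
  mem_centralizer_singleton_iff.1 (hK.le hx)

variable {E : Subgroup G} {a t z b : G} {c : V3 → G}

theorem cd_zero (hc : Coord a t z b E c) : c 0 = 1 := by
  have := hc.add 0 0
  rwa [add_zero, eq_comm, mul_eq_left] at this

theorem cd_neg (hc : Coord a t z b E c) (v : V3) : c (-v) = (c v)⁻¹ :=
  eq_inv_of_mul_eq_one_left (by rw [← hc.add, neg_add_cancel, cd_zero hc])

theorem cd_comm (hc : Coord a t z b E c) (u v : V3) : Commute (c u) (c v) := by
  show c u * c v = c v * c u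
  rw [← hc.add, ← hc.add, add_comm]

theorem mem_fixA {u : G} : u ∈ fixA E t ↔ u ∈ E ∧ u * t = t * u := by
  rw [fixA, mem_inf, mem_centralizer_singleton_iff]

theorem fixA_eq (hc : Coord a t z b E c) {u : G} : u ∈ fixA E t ↔ ∃ v, c v = u := by
  refine mem_fixA.trans ⟨fun h => hc.surj u h.1 h.2, ?_⟩
  rintro ⟨v, rfl⟩
  exact hc.mem v

/-- The vectors whose images commute with `g`. -/
def commSet (hc : Coord a t z b E c) (g : G) : AddSubgroup V3 where
  carrier := {v | Commute g (c v)}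
  zero_mem' := by
    show Commute g (c 0)
    rw [cd_zero hc]; exact Commute.one_right g
  add_mem' := fun {u v} hu hv => by
    show Commute g (c (u + v))
    rw [hc.add]; exact Commute.mul_right hu hv
  neg_mem' := fun {v} hv => by
    show Commute g (c (-v))
    rw [cd_neg hc]; exact Commute.inv_right hv

/-- The image of the kernel of a linear form. -/
def img (hc : Coord a t z b E c) (f : V3 →+ ZMod 3) : Subgroup G where
  carrier := {g | ∃ v, f v = 0 ∧ c v = g}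
  one_mem' := ⟨0, map_zero f, cd_zero hc⟩
  mul_mem' := by
    rintro _ _ ⟨u, hu, rfl⟩ ⟨v, hv, rfl⟩
    exact ⟨u + v, by rw [map_add, hu, hv, add_zero], hc.add u v⟩
  inv_mem' := by
    rintro _ ⟨v, hv, rfl⟩
    exact ⟨-v, by rw [map_neg, hv, neg_zero], cd_neg hc v⟩

theorem img_le (hc : Coord a t z b E c) (f : V3 →+ ZMod 3) : img hc f ≤ fixA E t := by
  rintro _ ⟨v, -, rfl⟩
  exact (fixA_eq hc).2 ⟨v, rfl⟩

theorem img_comm (hc : Coord a t z b E c) (f : V3 →+ ZMod 3) : IsMulCommutative ↥(img hc f) :=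
  ⟨⟨fun x y => Subtype.ext (by
    obtain ⟨u, -, hu⟩ := x.2
    obtain ⟨v, -, hv⟩ := y.2
    show (x : G) * y = y * x
    rw [← hu, ← hv]; exact cd_comm hc u v)⟩⟩

/-- Conjugating an invariant 2-subgroup. -/
def cS (g : G) (H : Subgroup G) : Subgroup G := H.map (MulAut.conj g).toMonoidHom

theorem mem_cS {g x : G} {H : Subgroup G} : x ∈ cS g H ↔ g⁻¹ * x * g ∈ H := by
  constructor
  · rintro ⟨h, hh, rfl⟩
    simpa [MulEquiv.coe_toMonoidHom, MulAut.conj_apply, mul_assoc] using hh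
  · exact fun h => ⟨g⁻¹ * x * g, h, by simp [MulAut.conj_apply, mul_assoc]⟩

theorem conj_mem_cS {g x : G} {H : Subgroup G} (hx : x ∈ H) : g * x * g⁻¹ ∈ cS g H :=
  mem_cS.2 (by simpa [mul_assoc] using hx)

/-- An element of `N(E) ∩ C(t)` acting on the coordinates as `w`. -/
structure Act (E : Subgroup G) (t : G) (c : V3 → G) (n : G) (w : Wt) : Prop where
  norm : n ∈ normalizer (E : Set G)
  t_comm : n * t = t * n
  act : ∀ v, n * c v * n⁻¹ = c (wact w v)

theorem Act.one : Act E t c 1 1 := ⟨one_mem _, by simp, fun v => by simp [wact_one]⟩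

theorem Act.mul {n m : G} {w u : Wt} (h : Act E t c n w) (h' : Act E t c m u) :
    Act E t c (n * m) (w * u) := by
  refine ⟨mul_mem h.norm h'.norm, (Commute.mul_left h.t_comm h'.t_comm).eq, fun v => ?_⟩
  rw [show n * m * c v * (n * m)⁻¹ = n * (m * c v * m⁻¹) * n⁻¹ by group, h'.act, h.act, wact_mul]

theorem Act.exists_inv {n : G} {w : Wt} (h : Act E t c n w) :
    ∃ w', Act E t c n⁻¹ w' ∧ ∀ v, wact w (wact w' v) = v := by
  obtain ⟨w', hw'⟩ := inv_wact w
  refine ⟨w', ⟨inv_mem h.norm, (show Commute n t from h.t_comm).inv_left.eq, fun v => ?_⟩,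
    fun v => (hw' v).1⟩
  have e := h.act (wact w' v)
  rw [(hw' v).1] at e
  rw [← e]; group

theorem exists_act (hc : Coord a t z b E c) (w : Wt) : ∃ n, Act E t c n w := by
  obtain ⟨n, -, h2, h3, h4⟩ := hc.mon w
  exact ⟨n, h3, h2, h4⟩

theorem Act.inv2 (hc : Coord a t z b E c) {n : G} {w : Wt} (h : Act E t c n w) {K : Subgroup G}
    (hK : Inv2 E t K) : Inv2 E t (cS n K) := by
  obtain ⟨w', h', -⟩ := h.exists_inv
  refine ⟨hK.two.map _, ?_, fun u hu => ?_⟩
  · rintro _ ⟨x, hx, rfl⟩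
    refine mem_centralizer_singleton_iff.2 ?_
    have hn : Commute n t := h.t_comm
    exact (((hn.mul_left (hK.comm_t hx)).mul_left hn.inv_left)).eq
  · obtain ⟨v, rfl⟩ := (fixA_eq hc).1 hu
    have hv : n⁻¹ * c v * n = c (wact w' v) := by simpa using h'.act v
    have hmem : n⁻¹ * c v * n ∈ normalizer (K : Set G) := hK.inv (by
      rw [hv]; exact (fixA_eq hc).2 ⟨_, rfl⟩)
    rw [mem_normalizer_iff]
    intro x
    rw [mem_cS, mem_cS, mem_normalizer_iff.1 hmem (n⁻¹ * x * n)]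
    constructor <;> intro h'' <;>
      simpa [mul_assoc] using h''

/-- The largest invariant 2-subgroup centralizing `p`. -/
structure IsMax (E : Subgroup G) (t p : G) (M : Subgroup G) : Prop where
  inv : Inv2 E t M
  le : M ≤ centralizer ({p} : Set G)
  top : ∀ K, Inv2 E t K → K ≤ centralizer ({p} : Set G) → K ≤ M

theorem IsMax.uniq {p : G} {M M' : Subgroup G} (h : IsMax E t p M) (h' : IsMax E t p M') : M = M' :=
  le_antisymm (h'.top M h.inv h.le) (h.top M' h'.inv h'.le)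

theorem IsMax.inv_pt {p : G} {M : Subgroup G} (h : IsMax E t p M) : IsMax E t p⁻¹ M := by
  have e : ∀ K : Subgroup G, K ≤ centralizer ({p⁻¹} : Set G) ↔ K ≤ centralizer ({p} : Set G) := fun K =>
    forall₂_congr fun x _ => by
      rw [mem_centralizer_singleton_iff, mem_centralizer_singleton_iff]
      exact Commute.inv_right_iff
  exact ⟨h.inv, (e M).2 h.le, fun K hK hle => h.top K hK ((e K).1 hle)⟩

theorem IsMax.act (hc : Coord a t z b E c) {n : G} {w : Wt} (h : Act E t c n w) {v : V3}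
    {M : Subgroup G} (hM : IsMax E t (c v) M) : IsMax E t (c (wact w v)) (cS n M) := by
  refine ⟨h.inv2 hc hM.inv, ?_, fun K hK hle => ?_⟩
  · rintro _ ⟨x, hx, rfl⟩
    refine mem_centralizer_singleton_iff.2 ?_
    rw [← h.act v]
    have hx' : Commute x (c v) := mem_centralizer_singleton_iff.1 (hM.le hx)
    have := (hx'.map (MulAut.conj n).toMonoidHom).eq
    simpa only [MulEquiv.coe_toMonoidHom, MulAut.conj_apply] using this
  · obtain ⟨w', h', -⟩ := h.exists_inv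
    have hle' : cS n⁻¹ K ≤ centralizer ({c v} : Set G) := by
      rintro _ ⟨x, hx, rfl⟩
      refine mem_centralizer_singleton_iff.2 ?_
      have hx' : Commute x (n * c v * n⁻¹) := by
        rw [h.act v]; exact mem_centralizer_singleton_iff.1 (hle hx)
      have := (hx'.map (MulAut.conj n⁻¹).toMonoidHom).eq
      simpa [MulEquiv.coe_toMonoidHom, MulAut.conj_apply, mul_assoc] using this
    intro x hx
    rw [mem_cS]
    refine hM.top _ (h'.inv2 hc hK) hle' ?_
    rw [mem_cS]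
    simpa [mul_assoc] using hx

theorem Inv2.inf_cent (hc : Coord a t z b E c) {K : Subgroup G} (hK : Inv2 E t K) (v : V3) :
    Inv2 E t (K ⊓ centralizer ({c v} : Set G)) := by
  refine ⟨hK.two.to_le inf_le_left, inf_le_left.trans hK.le, fun u hu => ?_⟩
  have hu' : u ∈ normalizer (K : Set G) := hK.inv hu
  obtain ⟨v', rfl⟩ := (fixA_eq hc).1 hu
  rw [mem_normalizer_iff]
  intro x
  rw [mem_inf, mem_inf, mem_normalizer_iff.1 hu' x, mem_centralizer_singleton_iff,
    mem_centralizer_singleton_iff]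
  refine and_congr_right fun _ => ?_
  have hcc : Commute (c v') (c v) := cd_comm hc v' v
  constructor
  · exact fun hx => ((hcc.mul_left hx).mul_left hcc.inv_left).eq
  · intro hx
    have h2 := ((hcc.inv_left.mul_left (show Commute (c v' * x * (c v')⁻¹) (c v) from hx)).mul_left hcc).eq
    rwa [show (c v')⁻¹ * (c v' * x * (c v')⁻¹) * c v' = x by group] at h2

variable {Z Q Q1 Q2 L1 L2 : Subgroup G} {t1 t2 y : G} [Finite G]

theorem plane_norm (D : Local Z Q Q1 Q2 L1 L2 E t1 t2 z y a b) (hc : Coord a t1 z b E c)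
    (h1 : c (1, 0, 0) = y) (h2 : c (0, 1, 1) = y⁻¹ * z) (hax : Axis a E c) {g : G}
    (hg1 : Commute g (c (0, 1, 0))) (hg2 : Commute g (c (0, 0, 1))) :
    g ∈ normalizer (E : Set G) := by
  obtain ⟨g0, ga, gb, gy, gy'⟩ := D.swap
  have hgE := D.swap_norm ga gb gy gy'
  obtain ⟨⟨w, hw1, hw2⟩, ⟨w', hw'⟩, e1⟩ :
      (∃ w : Wt, wact w (0, 1, 0) = (1, 0, 0) ∧ wact w (0, 0, 1) = (0, 1, 0)) ∧
      (∃ w : Wt, wact w (0, 1, 0) = (1, 0, 0)) ∧ ((0, 2, 0) : V3) + (0, 2, 0) = (0, 1, 0) := by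
    decide +kernel
  have p1 : c (0, 2, 0) = y⁻¹ * z * b := by
    rw [show ((0, 2, 0) : V3) = (0, 1, 1) + (0, 1, -1) by decide, hc.add, h2, hc.map_b]
  obtain ⟨n, -, -, hnE, hn⟩ := hc.mon w
  set h := g0 * (n * g * n⁻¹) * g0⁻¹ with hh
  have hn1 : Commute (n * g * n⁻¹) y := by
    rw [← h1, ← hw1, ← hn]
    have := hg1.map (MulAut.conj n).toMonoidHom
    simpa only [MulEquiv.coe_toMonoidHom, MulAut.conj_apply] using this
  have hn2 : Commute (n * g * n⁻¹) (c (0, 1, 0)) := by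
    rw [← hw2, ← hn]
    have := hg2.map (MulAut.conj n).toMonoidHom
    simpa only [MulEquiv.coe_toMonoidHom, MulAut.conj_apply] using this
  have hha : Commute h a := by
    have := hn1.map (MulAut.conj g0).toMonoidHom
    simp only [MulEquiv.coe_toMonoidHom, MulAut.conj_apply, gy] at this
    exact this
  have hfix : g0 * c (0, 1, 0) * g0⁻¹ = c (0, 1, 0) := by
    have e : g0 * c (0, 2, 0) * g0⁻¹ = c (0, 2, 0) := by
      rw [p1, show g0 * (y⁻¹ * z * b) * g0⁻¹ = (g0 * (y⁻¹ * z) * g0⁻¹) * (g0 * b * g0⁻¹) by group, gy', gb]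
      exact D.E_comm b D.b_E' _ (mul_mem (inv_mem D.y_E') D.z_E)
    rw [← e1, hc.add, show g0 * (c (0, 2, 0) * c (0, 2, 0)) * g0⁻¹ =
      (g0 * c (0, 2, 0) * g0⁻¹) * (g0 * c (0, 2, 0) * g0⁻¹) by group, e]
  have hhc : Commute h (c (0, 1, 0)) := by
    have := hn2.map (MulAut.conj g0).toMonoidHom
    simp only [MulEquiv.coe_toMonoidHom, MulAut.conj_apply, hfix] at this
    exact this
  obtain ⟨n', hn'a, -, hn'E, hn'⟩ := hc.mon w'
  have h5 : n' * h * n'⁻¹ ∈ normalizer (E : Set G) := by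
    refine hax _ (((show Commute n' a from hn'a).mul_left hha).mul_left
      (show Commute n' a from hn'a).inv_left).eq ?_
    rw [← hw', ← hn']
    have := (hhc.map (MulAut.conj n').toMonoidHom).eq
    simpa only [MulEquiv.coe_toMonoidHom, MulAut.conj_apply] using this
  have h6 := mul_mem (mul_mem (inv_mem hn'E) h5) hn'E
  rw [show n'⁻¹ * (n' * h * n'⁻¹) * n' = h by group] at h6
  have h7 := mul_mem (mul_mem (inv_mem hgE) h6) hgE
  rw [show g0⁻¹ * h * g0 = n * g * n⁻¹ by rw [hh]; group] at h7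
  have h8 := mul_mem (mul_mem (inv_mem hnE) h7) hnE
  rwa [show n⁻¹ * (n * g * n⁻¹) * n = g by group] at h8

theorem cpl_norm (D : Local Z Q Q1 Q2 L1 L2 E t1 t2 z y a b) (hc : Coord a t1 z b E c)
    (h1 : c (1, 0, 0) = y) (h2 : c (0, 1, 1) = y⁻¹ * z) (hax : Axis a E c) {g : G} (j : Fin 3)
    (hg1 : Commute g (c (cpl j).1)) (hg2 : Commute g (c (cpl j).2)) :
    g ∈ normalizer (E : Set G) := by
  obtain ⟨w, hw1, hw2⟩ := plane_moves j
  obtain ⟨n, hn⟩ := exists_act hc w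
  have hmove : ∀ v, Commute g (c v) → Commute (n * g * n⁻¹) (c (wact w v)) := fun v hv => by
    rw [← hn.act v]
    have := hv.map (MulAut.conj n).toMonoidHom
    simpa only [MulEquiv.coe_toMonoidHom, MulAut.conj_apply] using this
  have := plane_norm D hc h1 h2 hax (g := n * g * n⁻¹) (hw1 ▸ hmove _ hg1) (hw2 ▸ hmove _ hg2)
  have h8 := mul_mem (mul_mem (inv_mem hn.norm) this) hn.norm
  rwa [show n⁻¹ * (n * g * n⁻¹) * n = g by group] at h8

/-- A 2-element centralizing `t1` and `A` lies in `⟨t1⟩`. -/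
theorem cent_all (D : Local Z Q Q1 Q2 L1 L2 E t1 t2 z y a b) (hc : Coord a t1 z b E c)
    (h1 : c (1, 0, 0) = y) (h2 : c (0, 1, 1) = y⁻¹ * z) (hax : Axis a E c) {x : G} (hx : Two x)
    (hxt : x * t1 = t1 * x) (hxA : ∀ v, Commute x (c v)) : x ∈ zpowers t1 := by
  have hxE : x ∈ normalizer (E : Set G) := plane_norm D hc h1 h2 hax (hxA _) (hxA _)
  have hcent : ∀ g : G, Commute g a → (∀ v, Commute g (c v)) → g ∈ E := by
    intro g hga hgA
    refine D.cent_E fun u hu => ?_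
    obtain ⟨w, hw, hwt, hwu⟩ := D.t1_E hu
    obtain ⟨v, rfl⟩ := hc.surj w hw hwt
    obtain ⟨k, hk⟩ := mem_zpowers_iff.1 hwu
    have e : u = c v * (a ^ k)⁻¹ := by rw [hk]; group
    rw [e]
    exact ((hgA v).mul_right (hga.zpow_right k).inv_right).eq
  have huE : x * a * x⁻¹ ∈ E := (mem_normalizer_iff.1 hxE a).1 D.a_E'
  have hinv : t1 * (x * a * x⁻¹) * t1⁻¹ = (x * a * x⁻¹)⁻¹ := by
    calc t1 * (x * a * x⁻¹) * t1⁻¹ = (t1 * x) * a * (t1 * x)⁻¹ := by group
      _ = x * (t1 * a * t1⁻¹) * x⁻¹ := by rw [← hxt]; group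
      _ = _ := by rw [D.t1_a]; group
  obtain ⟨w, hw, hwt, hwu⟩ := D.t1_E huE
  obtain ⟨k, hk⟩ := mem_zpowers_iff.1 hwu
  have e : x * a * x⁻¹ = w * (a ^ k)⁻¹ := by rw [hk]; group
  have hwa : Commute w (a ^ k) := (show Commute w a from D.E_comm w hw a D.a_E').zpow_right k
  have hw2 : w * w = 1 := by
    rw [e, show t1 * (w * (a ^ k)⁻¹) * t1⁻¹ = (t1 * w * t1⁻¹) * ((t1 * a * t1⁻¹) ^ k)⁻¹ by
      rw [conj_zpow]; group, ← hwt, mul_inv_cancel_right, D.t1_a, inv_zpow, inv_inv, mul_inv_rev, inv_inv,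
      ← hwa.inv_left.eq] at hinv
    have := mul_right_cancel hinv
    calc w * w = w * w⁻¹ := by nth_rewrite 2 [this]; rfl
      _ = 1 := mul_inv_cancel w
  have hw1 : w = 1 := two_cube ⟨1, by rw [pow_one, pow_two, hw2]⟩ (D.E_exp w hw)
  rw [hw1, one_mul] at e
  obtain ⟨m, hm⟩ := (mem_powers_iff_mem_zpowers.2 (e ▸ inv_mem (zpow_mem (mem_zpowers a) k)) :
    x * a * x⁻¹ ∈ Submonoid.powers a)
  have hm3 : x * a * x⁻¹ = a ^ (m % 3) := hm.symm.trans (pow_mod_three D.a3 m)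
  have hcases : m % 3 = 0 ∨ m % 3 = 1 ∨ m % 3 = 2 := by omega
  rcases hcases with h | h | h <;> rw [h] at hm3
  · rw [pow_zero] at hm3
    exact absurd (conj_eq_one_iff.1 hm3) D.a_ne
  · rw [pow_one] at hm3
    rw [two_cube hx (D.E_exp x (hcent x (mul_inv_eq_iff_eq_mul.1 hm3) hxA))]
    exact one_mem _
  · have ha2 : a ^ 2 = a⁻¹ := eq_inv_of_mul_eq_one_left (by rw [← pow_succ, D.a3])
    rw [ha2] at hm3
    have hta : Commute (t1 * x) a := by
      refine mul_inv_eq_iff_eq_mul.1 ?_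
      calc t1 * x * a * (t1 * x)⁻¹ = t1 * (x * a * x⁻¹) * t1⁻¹ := by group
        _ = (t1 * a * t1⁻¹)⁻¹ := by rw [hm3]; group
        _ = a := by rw [D.t1_a, inv_inv]
    have htA : ∀ v, Commute (t1 * x) (c v) := fun v =>
      (show Commute t1 (c v) from ((hc.mem v).2).symm).mul_left (hxA v)
    have he := hcent _ hta htA
    have ht2 : Two t1 := ⟨1, by rw [pow_one, pow_two, D.t1_sq]⟩
    have h1' := two_cube (ht2.mul hx hxt.symm) (D.E_exp _ he)
    have hx' : x = t1⁻¹ := eq_inv_of_mul_eq_one_right h1'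
    rw [hx']
    exact inv_mem (mem_zpowers t1)

/-- An invariant 2-subgroup meets `N(E)` in `⟨t1⟩`. -/
theorem norm_part (D : Local Z Q Q1 Q2 L1 L2 E t1 t2 z y a b) (hc : Coord a t1 z b E c)
    (h1 : c (1, 0, 0) = y) (h2 : c (0, 1, 1) = y⁻¹ * z) (hax : Axis a E c) {K : Subgroup G}
    (hK : Inv2 E t1 K) {x : G} (hx : x ∈ K) (hxE : x ∈ normalizer (E : Set G)) : x ∈ zpowers t1 := by
  refine cent_all D hc h1 h2 hax (hK.two_mem hx) (hK.comm_t hx) fun v => ?_
  have hvK : c v ∈ normalizer (K : Set G) := hK.inv ((fixA_eq hc).2 ⟨v, rfl⟩)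
  have hK' : ⁅x, c v⁆ ∈ K := by
    rw [commutatorElement_def, mul_assoc x, mul_assoc x]
    exact mul_mem hx ((mem_normalizer_iff.1 hvK _).1 (inv_mem hx))
  have hE : ⁅x, c v⁆ ∈ E := by
    rw [commutatorElement_def]
    exact mul_mem ((mem_normalizer_iff.1 hxE _).1 (hc.mem v).1) (inv_mem (hc.mem v).1)
  exact commutatorElement_eq_one_iff_mul_comm.1 (two_cube (hK.two_mem hK') (D.E_exp _ hE))

/-- An invariant 2-subgroup lies in any subgroup holding `t1` and its parts at the points. -/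
theorem le_of_points (D : Local Z Q Q1 Q2 L1 L2 E t1 t2 z y a b) (hc : Coord a t1 z b E c)
    (h1 : c (1, 0, 0) = y) (h2 : c (0, 1, 1) = y⁻¹ * z) (hax : Axis a E c) {K H : Subgroup G}
    (hK : Inv2 E t1 K) (ht : t1 ∈ H) (hp : ∀ v, Full v → ∀ x ∈ K, Commute x (c v) → x ∈ H) : K ≤ H := by
  haveI : Fact (Nat.Prime 3) := ⟨Nat.prime_three⟩
  haveI : Fact (Nat.Prime 2) := ⟨Nat.prime_two⟩
  have hnc : ∀ f : V3 →+ ZMod 3, 3 < Fintype.card {v : V3 // f v = 0} → ¬ IsCyclic ↥(img hc f) := by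
    intro f hf hcyc
    obtain ⟨g, hg⟩ := IsCyclic.exists_generator (α := ↥(img hc f))
    have hinj : Function.Injective fun v : {v : V3 // f v = 0} =>
        (⟨c v.1, v.1, v.2, rfl⟩ : ↥(img hc f)) := fun v v' e =>
      Subtype.ext (hc.inj (congrArg Subtype.val e))
    have hle := Nat.card_le_card_of_injective _ hinj
    rw [Nat.card_eq_fintype_card] at hle
    have h3 : orderOf g ≤ 3 := orderOf_le_of_pow_eq_one (by norm_num)
      (Subtype.ext (D.E_exp g (mem_fixA.1 (img_le hc f g.2)).1))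
    rw [orderOf_eq_card_of_forall_mem_zpowers hg] at h3
    omega
  have hcop : ∀ (f : V3 →+ ZMod 3) (J : Subgroup G), Inv2 E t1 J →
      (Nat.card ↥(img hc f)).Coprime (Nat.card ↥J) := fun f J hJ =>
    IsPGroup.coprime_card_of_ne 3 2 (by norm_num) (img hc f) J
      (fun g => ⟨1, Subtype.ext (by simpa using D.E_exp g (mem_fixA.1 (img_le hc f g.2)).1)⟩) hJ.two
  have hgen : ∀ (f : V3 →+ ZMod 3) (J : Subgroup G), 3 < Fintype.card {v : V3 // f v = 0} →
      Inv2 E t1 J → (∀ v, f v = 0 → v ≠ 0 → J ⊓ centralizer ({c v} : Set G) ≤ H) → J ≤ H := by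
    intro f J hf hJ hall
    haveI := img_comm hc f
    rw [← Coprime.fixedGen_eq (hnc f hf) ((img_le hc f).trans hJ.inv) (hcop f J hJ)]
    refine iSup₂_le ?_
    rintro g ⟨⟨v, hv, rfl⟩, hg1⟩
    exact hall v hv fun e => hg1 (e ▸ cd_zero hc)
  refine hgen 0 K plane_four.2 hK fun v _ hv => ?_
  obtain ⟨i, hi⟩ := coord_ne v hv
  refine hgen (cf i) _ (plane_four.1 i) (hK.inf_cent hc v) fun u hu hu0 x hx => ?_
  obtain ⟨hx1, hxu⟩ := mem_inf.1 hx
  obtain ⟨hxK, hxv⟩ := mem_inf.1 hx1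
  have hv' : v ∈ commSet hc x := mem_centralizer_singleton_iff.1 hxv
  have hu' : u ∈ commSet hc x := mem_centralizer_singleton_iff.1 hxu
  have hlin : ∀ k l : Fin 3, Commute x (c ((k : ℕ) • v + (l : ℕ) • u)) := fun k l =>
    (commSet hc x).add_mem ((commSet hc x).nsmul_mem hv' _) ((commSet hc x).nsmul_mem hu' _)
  rcases span_cases i v u hi hu hu0 with ⟨k, l, hf⟩ | ⟨j, ⟨k, l, e1⟩, k', l', e2⟩
  · exact hp _ hf x hxK (hlin k l)
  · exact zpowers_le.2 ht (norm_part D hc h1 h2 hax hK hxK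
      (cpl_norm D hc h1 h2 hax j (e1 ▸ hlin k l) (e2 ▸ hlin k' l')))

end Cfsg.Agent.FFourLocal.Kill
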