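import Cfsg.Agent.Lib.FFourLocal.Kill.Defs

/-!
# The element `τ`
-/

set_option autoImplicit false
set_option linter.unusedSectionVars false
set_option linter.style.haveILetI false
set_option maxRecDepth 100000
set_option synthInstance.maxSize 10000

namespace Cfsg.Agent.FFourLocal.Kill

open Subgroup
open Cfsg.Agent.NineSym (V3 Wt wact)

universe u

variable {G : Type u} [Group G] [Finite G] {Z Q Q1 Q2 L1 L2 E : Subgroup G} {t1 t2 z y a b : G}

theorem exists_tau (D : Local Z Q Q1 Q2 L1 L2 E t1 t2 z y a b) {d : V3 → G} (hd : Coord b t2 z a E d)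
    (h3 : d (1, 0, 0) = y⁻¹ * z) (h4 : d (0, 1, 1) = y) : ∃ τ, Tau E t1 t2 z y a b τ := by
  obtain ⟨w, w1, w2, w3⟩ : ∃ w : Wt, wact w (1, 0, 0) = -(1, 0, 0) ∧ wact w (0, 1, 1) = (0, 1, 1) ∧
      wact w (0, 1, -1) = (0, 1, -1) := by decide +kernel
  obtain ⟨n, hnb, hnt2, hnE, hn⟩ := hd.mon w
  have hd0 : d 0 = 1 := by
    have := hd.add 0 0
    rwa [add_zero, eq_comm, mul_eq_left] at this
  have hdneg : ∀ u, d (-u) = (d u)⁻¹ := fun u => eq_inv_of_mul_eq_one_left (by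
    rw [← hd.add, neg_add_cancel, hd0])
  have hna : n * a * n⁻¹ = a := by rw [← hd.map_b, hn, w3]
  have hny : n * y * n⁻¹ = y := by rw [← h4, hn, w2]
  have hny' : n * (y⁻¹ * z) * n⁻¹ = (y⁻¹ * z)⁻¹ := by rw [← h3, hn, w1, hdneg]
  have hti : t1⁻¹ = t1 := inv_eq_of_mul_eq_one_right D.t1_sq
  have t1b : Commute t1 b := D.t1_b
  have t1y : Commute t1 y := D.y_t1
  have t1y' : Commute t1 (y⁻¹ * z) :=
    t1y.inv_right.mul_right (D.base.fix_Z D.t1_cent D.z_mem)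
  set c0 := t1 * n * t1⁻¹ * n⁻¹ with hc0
  -- `n` and `t1` commute on the generators of `E`
  have key : ∀ x, t1 * (n * x * n⁻¹) * t1⁻¹ = n * (t1 * x * t1⁻¹) * n⁻¹ →
      c0 * (n * (t1 * x * t1⁻¹) * n⁻¹) = n * (t1 * x * t1⁻¹) * n⁻¹ * c0 := by
    intro x hx
    conv_rhs => rw [← hx]
    rw [hc0]
    group
  have hfixgen : ∀ x, c0 * x = x * c0 → x ∈ centralizer ({c0} : Set G) := fun x h =>
    mem_centralizer_singleton_iff.2 h.symm
  have ca : c0 * a = a * c0 := by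
    have e : t1 * a⁻¹ * t1⁻¹ = a := by
      rw [show t1 * a⁻¹ * t1⁻¹ = (t1 * a * t1⁻¹)⁻¹ by group, D.t1_a, inv_inv]
    have hnai : n * a⁻¹ * n⁻¹ = a⁻¹ := by rw [show n * a⁻¹ * n⁻¹ = (n * a * n⁻¹)⁻¹ by group, hna]
    have := key a⁻¹ (by rw [hnai, e, hna])
    rwa [e, hna] at this
  have cb : c0 * b = b * c0 := by
    have hnb' : n * b * n⁻¹ = b := by rw [hnb, mul_inv_cancel_right]
    have e : t1 * b * t1⁻¹ = b := by rw [t1b.eq, mul_inv_cancel_right]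
    have := key b (by rw [hnb', e, hnb'])
    rwa [e, hnb'] at this
  have cy : c0 * y = y * c0 := by
    have e : t1 * y * t1⁻¹ = y := by rw [t1y.eq, mul_inv_cancel_right]
    have := key y (by rw [hny, e, hny])
    rwa [e, hny] at this
  have cy' : c0 * (y⁻¹ * z) = y⁻¹ * z * c0 := by
    have e : t1 * (y⁻¹ * z) * t1⁻¹ = y⁻¹ * z := by rw [t1y'.eq, mul_inv_cancel_right]
    have e' : t1 * (y⁻¹ * z)⁻¹ * t1⁻¹ = (y⁻¹ * z)⁻¹ := by rw [t1y'.inv_right.eq, mul_inv_cancel_right]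
    have := key (y⁻¹ * z) (by rw [hny', e', e, hny'])
    rw [e, hny'] at this
    exact (Commute.inv_right_iff.1 (show Commute c0 (y⁻¹ * z)⁻¹ from this)).eq
  have hc0E : c0 ∈ E := by
    refine D.cent_E fun u hu => ?_
    have hle : E ≤ centralizer ({c0} : Set G) := by
      refine D.E_eq.le.trans (sup_le (sup_le (sup_le ?_ ?_) ?_) ?_) <;> rw [zpowers_le]
      · have := mul_mem (hfixgen y cy) (hfixgen _ cy')
        rwa [mul_inv_cancel_left] at this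
      · exact hfixgen a ca
      · exact hfixgen b cb
      · exact hfixgen y cy
    exact (mem_centralizer_singleton_iff.1 (hle hu)).symm
  obtain ⟨w', hw', hwt, hwc⟩ := D.t1_E hc0E
  obtain ⟨k, hk⟩ := mem_zpowers_iff.1 hwc
  have hc : c0 = w' * (a ^ k)⁻¹ := by rw [hk]; group
  have hinv : t1 * c0 * t1⁻¹ = c0⁻¹ := by
    calc t1 * c0 * t1⁻¹ = (t1 * t1) * n * t1⁻¹ * n⁻¹ * t1⁻¹ := by rw [hc0]; group
      _ = n * t1⁻¹ * n⁻¹ * t1⁻¹ := by rw [D.t1_sq, one_mul]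
      _ = c0⁻¹ := by rw [hc0]; simp only [mul_inv_rev, inv_inv, hti, mul_assoc]
  have hw1 : w' = 1 := by
    have e : t1 * (a ^ k)⁻¹ * t1⁻¹ = a ^ k := by
      rw [show t1 * (a ^ k)⁻¹ * t1⁻¹ = ((t1 * a * t1⁻¹) ^ k)⁻¹ by rw [conj_zpow]; group, D.t1_a, inv_zpow,
        inv_inv]
    rw [hc, show t1 * (w' * (a ^ k)⁻¹) * t1⁻¹ = (t1 * w' * t1⁻¹) * (t1 * (a ^ k)⁻¹ * t1⁻¹) by group, e, ← hwt,
      mul_inv_cancel_right, mul_inv_rev, inv_inv, D.E_comm _ hw' _ (zpow_mem D.a_E' k)] at hinv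
    have := mul_left_cancel hinv
    have h2 : w' * w' = 1 := by nth_rewrite 2 [this]; exact mul_inv_cancel w'
    calc w' = w' ^ 3 * (w' * w')⁻¹ := by group
      _ = 1 := by rw [D.E_exp w' hw', h2, inv_one, mul_one]
  rw [hw1, one_mul, ← zpow_neg] at hc
  obtain ⟨i, hi⟩ := (mem_powers_iff_mem_zpowers.2 (hc ▸ zpow_mem (mem_zpowers a) _ : c0 ∈ zpowers a) :
    c0 ∈ Submonoid.powers a)
  have hai : ∀ x ∈ E, ∀ m : ℕ, a ^ m * x * (a ^ m)⁻¹ = x := fun x hx m => by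
    rw [D.E_comm _ (pow_mem D.a_E' m) _ hx, mul_inv_cancel_right]
  have hy'E : y⁻¹ * z ∈ E := mul_mem (inv_mem D.y_E') D.z_E
  have hcna : Commute n a := mul_inv_eq_iff_eq_mul.1 hna
  have hcn : Commute n (a ^ i) := hcna.pow_right i
  refine ⟨n * a ^ (2 * i), mul_mem hnE (le_normalizer (pow_mem D.a_E' _)),
    (hcna.mul_left ((Commute.refl a).pow_left _)).eq,
    ((show Commute n b from hnb).mul_left ((show Commute a b from D.ab).pow_left _)).eq,
    ((show Commute n y from mul_inv_eq_iff_eq_mul.1 hny).mul_left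
      ((show Commute a y from D.y_a.symm).pow_left _)).eq, ?_,
    ((show Commute n t2 from hnt2).mul_left ((show Commute a t2 from D.t2_a.symm).pow_left _)).eq, ?_⟩
  · refine (mul_inv_eq_iff_eq_mul.1 ?_).symm
    have e1 : t1 * n * t1⁻¹ = a ^ i * n := by
      rw [show a ^ i = c0 from hi, hc0]; group
    calc t1 * (n * a ^ (2 * i)) * t1⁻¹ = (t1 * n * t1⁻¹) * (t1 * a * t1⁻¹) ^ (2 * i) := by
          rw [conj_pow]; group
      _ = a ^ i * n * (a ^ (2 * i))⁻¹ := by rw [e1, D.t1_a, inv_pow]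
      _ = n * (a ^ i * (a ^ (2 * i))⁻¹) := by rw [← hcn.eq, mul_assoc]
      _ = n * a ^ (2 * i) := by
        congr 1
        rw [mul_inv_eq_iff_eq_mul, ← pow_add]
        calc a ^ i = a ^ i * (a ^ 3) ^ i := by rw [D.a3, one_pow, mul_one]
          _ = _ := by rw [← pow_mul, ← pow_add]; ring_nf
  · rw [show n * a ^ (2 * i) * (y⁻¹ * z) * (n * a ^ (2 * i))⁻¹ =
      n * (a ^ (2 * i) * (y⁻¹ * z) * (a ^ (2 * i))⁻¹) * n⁻¹ by group, hai _ hy'E, hny']

end Cfsg.Agent.FFourLocal.Kill
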